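import Cfsg.Agent.Lib.Blk83.ItoMichler
import Cfsg.Agent.Lib.CharDeep.Extend
import Cfsg.Agent.Lib.CharDeep.Gallagher
import Cfsg.Agent.Lib.Char.CentralOver
import Cfsg.Agent.Lib.CharTools.Basic

/-!
# Degrees over a normal subgroup with cyclic quotient
-/

set_option autoImplicit false
set_option linter.style.haveILetI false

namespace CfsgLib.DegGraph

open Cfsg CfsgLib

universe u

variable {G : Type u} [Group G]

theorem exists_constituent_res [Finite G] (χ : IrrCharacter G) (N : Subgroup G) [Fintype N] :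
    ∃ θ : IrrCharacter N, Cfsg.classInner (fun n : N => (χ : G → ℂ) n) (θ : N → ℂ) ≠ 0 := by
  refine CharTools.exists_constituent
    (Char.IsCharacter.restrict (Char.IsIrrCharacter.isCharacter χ.2) N) ?_
  intro h
  exact Char.IsIrrCharacter.apply_one_ne_zero χ.2 (congrFun h (1 : N))

theorem degree_dvd_of_constituent [Finite G] (N : Subgroup G) [N.Normal] [Fintype N]
    (χ : IrrCharacter G) (θ : IrrCharacter N)
    (h : Cfsg.classInner (fun n : N => (χ : G → ℂ) n) (θ : N → ℂ) ≠ 0) :
    charDegree (θ : N → ℂ) ∣ charDegree (χ : G → ℂ) :=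
  (Dvd.intro _ rfl).trans (Blk83.dvd_of_constituent N χ θ h)

/-- With a cyclic quotient a degree is an orbit length times the degree of a constituent. -/
theorem degree_eq_of_cyclic [Finite G] (N : Subgroup G) [N.Normal] [Fintype N]
    (hcyc : IsCyclic (G ⧸ N)) (χ : IrrCharacter G) (θ : IrrCharacter N)
    (h : Cfsg.classInner (fun n : N => (χ : G → ℂ) n) (θ : N → ℂ) ≠ 0) :
    charDegree (χ : G → ℂ) =
      (CharTwist.inertia N (θ : N → ℂ)).index * charDegree (θ : N → ℂ) := by
  classical
  haveI := Fintype.ofFinite G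
  set T := CharTwist.inertia N (θ : N → ℂ) with hTdef
  haveI := Fintype.ofFinite T
  have hNT : N ≤ T := CharTwist.le_inertia N (Char.IsIrrCharacter.isClassFunction θ.2)
  obtain ⟨ψ, hψ, hind, hres⟩ := CharDeep.Cliff.correspondence N χ.2 θ.2 T
    (fun g => CharTwist.mem_inertia) hNT h
  let M : Subgroup T := N.subgroupOf T
  haveI : M.Normal := Subgroup.normal_subgroupOf
  haveI := Fintype.ofFinite M
  let e : M ≃* N := Subgroup.subgroupOfEquivOfLe hNT
  let θ' : M → ℂ := (θ : N → ℂ) ∘ e
  have hθ' : Cfsg.IsIrrCharacter M θ' := CharTwist.isIrrCharacter_comp_equiv θ.2 e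
  let π : T ⧸ M →* G ⧸ N := QuotientGroup.map M N T.subtype (fun x hx => hx)
  have hπ : Function.Injective π := by
    rw [injective_iff_map_eq_one]
    intro x hx
    obtain ⟨t, rfl⟩ := QuotientGroup.mk_surjective x
    have : (t : G) ∈ N := (QuotientGroup.eq_one_iff (t : G)).1 hx
    exact (QuotientGroup.eq_one_iff t).2 this
  haveI := isCyclic_of_injective π hπ
  have hinv : ∀ (t : T) (m : M), θ' ⟨t * m * t⁻¹,
      (inferInstance : M.Normal).conj_mem (m : T) m.2 t⟩ = θ' m := by
    intro t m
    have := congrFun (CharTwist.mem_inertia.1 t.2) (e m)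
    simp only [CharTwist.conjFun] at this
    rw [show θ' m = (θ : N → ℂ) (e m) from rfl, ← this]
    rfl
  obtain ⟨η, hη, hηres⟩ := CharDeep.Extend.extends_of_cyclic M θ' hθ' hinv inferInstance
  have hηM : (fun m : M => η m) = θ' := funext hηres
  obtain ⟨-, -, h3⟩ := CharDeep.Gal.quotient_bijection M hη (by rw [hηM]; exact hθ')
  have hψM : (fun m : M => ψ m) =
      (CharDeep.Cliff.mult (fun n : N => (χ : G → ℂ) n) (θ : N → ℂ) : ℂ) • θ' := by
    funext m
    have := congrFun hres (e m)
    simp only [Pi.smul_apply] at this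
    exact this
  have hmult : (CharDeep.Cliff.mult (fun n : N => (χ : G → ℂ) n) (θ : N → ℂ) : ℂ) ≠ 0 := by
    intro h0
    apply Char.IsIrrCharacter.apply_one_ne_zero hψ
    have := congrFun hψM 1
    simpa [h0] using this
  obtain ⟨β, hβ, hβψ⟩ := h3 ψ hψ (by
    rw [hψM, hηM, Char.classInner_smul_left, Char.classInner_irr_self hθ', mul_one]
    exact hmult)
  haveI := Fintype.ofFinite (T ⧸ M)
  have hab : ∀ a b : T ⧸ M, a * b = b * a := fun a b => IsCyclic.commGroup.mul_comm a b
  have hψ1 : ψ 1 = (θ : N → ℂ) 1 := by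
    rw [← hβψ, Pi.mul_apply, Function.comp_apply, map_one, (CharOver.abelian_irr hab hβ).1,
      one_mul]
    have := hηres 1
    simpa [θ'] using this
  have h1 : (charDegree (χ : G → ℂ) : ℂ) =
      ((T.index * charDegree (θ : N → ℂ) : ℕ) : ℂ) := by
    rw [CharTools.irr_degree_cast, ← hind, Char.indFun_apply_one, hψ1, Nat.cast_mul,
      CharTools.irr_degree_cast θ]
  exact_mod_cast h1

theorem res_irreducible_of_prime_index [Finite G] (N : Subgroup G) [N.Normal]
    (hp : N.index.Prime) (χ : IrrCharacter G) (hnd : ¬ N.index ∣ charDegree (χ : G → ℂ)) :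
    Cfsg.IsIrrCharacter N (fun n : N => (χ : G → ℂ) n) := by
  classical
  haveI := Fintype.ofFinite G
  haveI := Fintype.ofFinite N
  obtain ⟨θ, hθ⟩ := exists_constituent_res χ N
  haveI : Fact N.index.Prime := ⟨hp⟩
  have hcyc : IsCyclic (G ⧸ N) := isCyclic_of_prime_card (p := N.index) rfl
  have hd := degree_eq_of_cyclic N hcyc χ θ hθ
  set T := CharTwist.inertia N (θ : N → ℂ) with hT
  have hdvd : T.index ∣ N.index := Subgroup.index_dvd_of_le
    (CharTwist.le_inertia N (Char.IsIrrCharacter.isClassFunction θ.2))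
  rcases (Nat.dvd_prime hp).1 hdvd with h1 | h1
  · have hinv : ∀ g, CharTwist.conjFun N (θ : N → ℂ) g = (θ : N → ℂ) := fun g =>
      CharTwist.mem_inertia.1 (by rw [← hT, Subgroup.index_eq_one.1 h1]; trivial)
    obtain ⟨e, -, he⟩ := CharDeep.Cliff.res_eq_smul N χ.2 θ.2 hinv hθ
    have he1 : (e : ℂ) = 1 := by
      have := congrFun he 1
      simp only [Pi.smul_apply, smul_eq_mul, Subgroup.coe_one] at this
      rw [← CharTools.irr_degree_cast χ, hd, h1, one_mul, CharTools.irr_degree_cast θ] at this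
      exact mul_right_cancel₀ (CharTools.irr_apply_one_ne_zero θ) (by rw [one_mul]; exact this.symm)
    rw [he, he1, one_smul]
    exact θ.2
  · exact absurd (hd ▸ h1 ▸ Dvd.intro _ rfl) hnd

/-- Restriction to a normal subgroup of `p`-power index is irreducible in degree prime to `p`. -/
theorem res_irreducible_of_pgroup {p : ℕ} (hp : p.Prime) : ∀ (a : ℕ) (G : Type u) [Group G]
    [Finite G] (N : Subgroup G) [N.Normal], N.index = p ^ a → ∀ χ : IrrCharacter G,
    ¬ p ∣ charDegree (χ : G → ℂ) → Cfsg.IsIrrCharacter N (fun n : N => (χ : G → ℂ) n) := by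
  intro a
  induction a with
  | zero =>
    intro G _ _ N _ hN χ _
    rw [pow_zero, Subgroup.index_eq_one] at hN
    subst hN
    exact CharTwist.isIrrCharacter_comp_equiv χ.2 (Subgroup.topEquiv : (⊤ : Subgroup G) ≃* G)
  | succ a ih =>
    intro G _ _ N _ hN χ hχ
    haveI : Fact p.Prime := ⟨hp⟩
    have hcard : Nat.card (G ⧸ N) = p ^ (a + 1) := hN
    obtain ⟨H, hH⟩ := Sylow.exists_subgroup_card_pow_prime p (n := a) (G := G ⧸ N)
      (hcard ▸ pow_dvd_pow p (Nat.le_succ a))
    have hHi : H.index = p := by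
      have := H.card_mul_index
      rw [hH, hcard, pow_succ] at this
      exact Nat.eq_of_mul_eq_mul_left (pow_pos hp.pos a) this
    haveI : H.Normal := Subgroup.normal_of_index_eq_minFac_card (by
      rw [hHi, hcard, Nat.pow_minFac (Nat.succ_ne_zero a), hp.minFac_eq])
    let M : Subgroup G := H.comap (QuotientGroup.mk' N)
    have hMi : M.index = p :=
      (Subgroup.index_comap_of_surjective H (QuotientGroup.mk'_surjective N)).trans hHi
    have hNM : N ≤ M := by
      intro x hx
      show QuotientGroup.mk' N x ∈ H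
      rw [QuotientGroup.mk'_apply, (QuotientGroup.eq_one_iff x).2 hx]
      exact H.one_mem
    have hM := res_irreducible_of_prime_index M (hMi.symm ▸ hp) χ (hMi.symm ▸ hχ)
    have hNi : (N.subgroupOf M).index = p ^ a := by
      have := Subgroup.relIndex_mul_index hNM
      rw [hMi, hN, pow_succ] at this
      exact Nat.eq_of_mul_eq_mul_right hp.pos this
    haveI : (N.subgroupOf M).Normal := Subgroup.normal_subgroupOf
    have := ih M (N.subgroupOf M) hNi ⟨_, hM⟩ (by
      simpa [charDegree] using hχ)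
    exact CharTwist.isIrrCharacter_comp_equiv this (Subgroup.subgroupOfEquivOfLe hNM).symm

end CfsgLib.DegGraph
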