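import Cfsg.Agent.Lib.Char.Equiv
import Cfsg.Agent.Lib.Char.Linear
import Mathlib.LinearAlgebra.Determinant

/-!
# Determinants attached to characters
-/

set_option autoImplicit false

namespace CfsgLib.DegGraph

open Cfsg CfsgLib

universe u v w

variable {G : Type u} [Group G]

theorem det_eq_of_character_eq [Finite G] {V : Type v} [AddCommGroup V] [Module ℂ V]
    [FiniteDimensional ℂ V] {W : Type w} [AddCommGroup W] [Module ℂ W] [FiniteDimensional ℂ W]
    (ρ : Representation ℂ G V) (σ : Representation ℂ G W) (h : ρ.character = σ.character) (g : G) :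
    LinearMap.det (ρ g) = LinearMap.det (σ g) := by
  obtain ⟨e⟩ := Char.nonempty_equiv_of_character_eq ρ σ h
  have h1 : σ g = (e.toLinearEquiv : V →ₗ[ℂ] W) ∘ₗ ρ g ∘ₗ (e.toLinearEquiv.symm : W →ₗ[ℂ] V) := by
    ext w
    have := e.toIntertwiningMap.isIntertwining ρ σ g (e.toLinearEquiv.symm w)
    simp only [LinearMap.comp_apply]
    exact (this.trans (congrArg (σ g) (e.toLinearEquiv.apply_symm_apply w))).symm
  rw [h1, LinearMap.det_conj]

/-- The representation multiplied by a linear character. -/
def twistRep {V : Type v} [AddCommGroup V] [Module ℂ V] (μ : G →* ℂˣ)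
    (ρ : Representation ℂ G V) : Representation ℂ G V where
  toFun g := (μ g : ℂ) • ρ g
  map_one' := by simp
  map_mul' a b := by
    rw [map_mul, map_mul, Units.val_mul, smul_mul_smul_comm]

theorem twistRep_character {V : Type v} [AddCommGroup V] [Module ℂ V] [FiniteDimensional ℂ V]
    (μ : G →* ℂˣ) (ρ : Representation ℂ G V) :
    (twistRep μ ρ).character = fun g => (μ g : ℂ) * ρ.character g := by
  funext g
  show LinearMap.trace ℂ V ((μ g : ℂ) • ρ g) = _
  rw [map_smul]
  rfl

/-- A linear character fixing a character has order dividing its degree. -/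
theorem pow_degree_eq_one [Finite G] {χ : G → ℂ} (hχ : Cfsg.IsCharacter G χ) {d : ℕ}
    (hd : χ 1 = d) (μ : G →* ℂˣ) (h : (fun g => (μ g : ℂ) * χ g) = χ) : μ ^ d = 1 := by
  obtain ⟨n, ρ, rfl⟩ := hχ
  have hn : n = d := by
    rw [Representation.char_one] at hd
    have := Nat.cast_injective (R := ℂ) hd
    simpa using this
  subst hn
  ext g
  have h1 := det_eq_of_character_eq (twistRep μ ρ) ρ ((twistRep_character μ ρ).trans h) g
  have h2 : LinearMap.det ((μ g : ℂ) • ρ g) = LinearMap.det (ρ g) := h1
  rw [LinearMap.det_smul, Module.finrank_fin_fun] at h2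
  have hne : LinearMap.det (ρ g) ≠ 0 := by
    intro h0
    have : LinearMap.det (ρ g) * LinearMap.det (ρ g⁻¹) = 1 := by
      rw [← map_mul, ← map_mul, mul_inv_cancel, map_one, map_one]
    rw [h0, zero_mul] at this
    exact zero_ne_one this
  rw [MonoidHom.pow_apply, Units.val_pow_eq_pow_val, MonoidHom.one_apply, Units.val_one]
  exact mul_right_cancel₀ hne (h2.trans (one_mul _).symm)

end CfsgLib.DegGraph
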