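import Cfsg.Agent.Lib.DegGraph.Cyclic
import Cfsg.Agent.Lib.Char.FrobeniusInd
import Cfsg.Agent.S0041
import Cfsg.Agent.S0043
import Mathlib.GroupTheory.FiniteAbelian.Duality
import Mathlib.GroupTheory.Abelianization.Defs

/-!
# Minimal nonabelian quotients of solvable groups
-/

set_option autoImplicit false
set_option linter.style.haveILetI false

open scoped commutatorElement

namespace CfsgLib.DegGraph

open Cfsg CfsgLib

universe u

/-- A solvable nonabelian group all of whose nontrivial normal subgroups contain the derived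
subgroup is a group of prime-power order or a Frobenius group with elementary abelian kernel and
cyclic complement. -/
theorem structure_of_minimal {Q : Type u} [Group Q] [Finite Q] [Group.IsSolvable Q]
    (hna : commutator Q ≠ ⊥)
    (hmin : ∀ L : Subgroup Q, L.Normal → L ≠ ⊥ → commutator Q ≤ L) :
    ∃ q : ℕ, q.Prime ∧ (IsPGroup q Q ∨
      ((∀ x ∈ commutator Q, ∀ y ∈ commutator Q, x * y = y * x) ∧
        (∀ x ∈ commutator Q, x ^ q = 1) ∧
        IsCyclic (Q ⧸ commutator Q) ∧ 1 < (commutator Q).index ∧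
        (commutator Q).index ∣ Nat.card (commutator Q) - 1 ∧
        ∀ y ∉ commutator Q, ∀ x ∈ commutator Q, x * y = y * x → x = 1)) := by
  classical
  set M := commutator Q with hM
  obtain ⟨hcomm, q, hq, hexp⟩ := Cfsg.Agent.S0043.result M hna (fun L hL hLM => by
    by_cases h : L = ⊥
    · exact Or.inl h
    · exact Or.inr (le_antisymm hLM (hmin L hL h)))
  have hab : ∀ x ∈ M, ∀ y ∈ M, x * y = y * x := fun x hx y hy =>
    congrArg Subtype.val (hcomm.is_comm.comm ⟨x, hx⟩ ⟨y, hy⟩)
  have hmemM : ∀ a b : Q, ⁅a, b⁆ ∈ M := fun a b =>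
    Subgroup.commutator_mem_commutator (Subgroup.mem_top a) (Subgroup.mem_top b)
  refine ⟨q, hq, ?_⟩
  haveI : Fact q.Prime := ⟨hq⟩
  by_cases hZ : Subgroup.center Q = ⊥
  · refine Or.inr ⟨hab, hexp, ?_⟩
    have key : ∀ y : Q, (∀ x ∈ M, x * y = y * x) ∨ (∀ x ∈ M, x * y = y * x → x = 1) := by
      intro y
      let L : Subgroup Q := M ⊓ Subgroup.centralizer {y}
      have hL : L.Normal := by
        refine ⟨fun x hx g => ?_⟩
        obtain ⟨hxM, hxy⟩ := Subgroup.mem_inf.1 hx
        have hxy : x * y = y * x := Subgroup.mem_centralizer_singleton_iff.1 hxy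
        have hgx : g * x * g⁻¹ ∈ M :=
          (Subgroup.commutator_normal ⊤ ⊤).conj_mem x hxM g
        refine Subgroup.mem_inf.2 ⟨hgx, Subgroup.mem_centralizer_singleton_iff.2 ?_⟩
        have hy' : y = ⁅y, g⁆ * (g * y * g⁻¹) := by rw [commutatorElement_def]; group
        have hc := hab _ hgx _ (hmemM y g)
        have hd : g * x * g⁻¹ * (g * y * g⁻¹) = g * y * g⁻¹ * (g * x * g⁻¹) := by
          calc _ = g * (x * y) * g⁻¹ := by group
            _ = g * (y * x) * g⁻¹ := by rw [hxy]
            _ = _ := by group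
        rw [hy', ← mul_assoc, hc, mul_assoc, hd, ← mul_assoc]
      by_cases hLb : L = ⊥
      · refine Or.inr fun x hx hxy => ?_
        have : x ∈ L := Subgroup.mem_inf.2 ⟨hx, Subgroup.mem_centralizer_singleton_iff.2 hxy⟩
        rwa [hLb, Subgroup.mem_bot] at this
      · exact Or.inl fun x hx =>
          Subgroup.mem_centralizer_singleton_iff.1 (Subgroup.mem_inf.1 (hmin L hL hLb hx)).2
    -- some element moves M
    obtain ⟨g, hg⟩ : ∃ g : Q, ¬ ∀ x ∈ M, x * g = g * x := by
      by_contra hc
      push Not at hc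
      apply hna
      rw [eq_bot_iff]
      intro x hx
      rw [← hZ]
      exact Subgroup.mem_center_iff.2 fun g => (hc g x hx).symm
    have hsurj : ∀ y : Q, (∀ x ∈ M, x * y = y * x → x = 1) →
        ∀ z ∈ M, ∃ m ∈ M, ⁅m, y⁆ = z := by
      intro y hy
      let φ : M → M := fun m => ⟨⁅(m : Q), y⁆, hmemM _ _⟩
      have hφ : Function.Injective φ := by
        intro a b hab'
        have h1 : ⁅(a : Q), y⁆ = ⁅(b : Q), y⁆ := congrArg Subtype.val hab'
        have h2 : ((b : Q)⁻¹ * a) * y = y * ((b : Q)⁻¹ * a) := by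
          have h3 : (a : Q) * y * (a : Q)⁻¹ = (b : Q) * y * (b : Q)⁻¹ := by
            have := congrArg (fun t => t * y) h1
            simpa [commutatorElement_def] using this
          calc ((b : Q)⁻¹ * a) * y = (b : Q)⁻¹ * ((a : Q) * y * (a : Q)⁻¹) * a := by group
            _ = y * ((b : Q)⁻¹ * a) := by rw [h3]; group
        have := hy _ (M.mul_mem (M.inv_mem b.2) a.2) h2
        exact Subtype.ext (inv_mul_eq_one.1 this).symm
      intro z hz
      obtain ⟨m, hm⟩ := Finite.injective_iff_surjective.1 hφ ⟨z, hz⟩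
      exact ⟨m, m.2, congrArg Subtype.val hm⟩
    have hsplit : ∀ y : Q, (∀ x ∈ M, x * y = y * x → x = 1) → ∀ h : Q,
        ∃ m ∈ M, (m⁻¹ * h) * y = y * (m⁻¹ * h) := by
      intro y hy h
      obtain ⟨m, hm, hmy⟩ := hsurj y hy ⁅h, y⁆ (hmemM _ _)
      refine ⟨m, hm, ?_⟩
      have h1 : m * y * m⁻¹ = h * y * h⁻¹ := by
        have := congrArg (fun t => t * y) hmy
        simpa [commutatorElement_def] using this
      calc m⁻¹ * h * y = m⁻¹ * (h * y * h⁻¹) * h := by group
        _ = y * (m⁻¹ * h) := by rw [← h1]; group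
    have hgfpf : ∀ x ∈ M, x * g = g * x → x = 1 := (key g).resolve_left hg
    -- the centralizer of M is M
    have hCM : ∀ y : Q, (∀ x ∈ M, x * y = y * x) → y ∈ M := by
      intro y hy
      obtain ⟨m, hm, hmy⟩ := hsplit g hgfpf y
      set d := m⁻¹ * y with hd
      have hdM : ∀ x ∈ M, x * d = d * x := by
        intro x hx
        rw [hd]
        calc x * (m⁻¹ * y) = x * m⁻¹ * y := by group
          _ = m⁻¹ * (x * y) := by rw [hab x hx _ (M.inv_mem hm)]; group
          _ = m⁻¹ * y * x := by rw [hy x hx]; group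
      have hdc : d ∈ Subgroup.center Q := by
        refine Subgroup.mem_center_iff.2 fun h => ?_
        -- `x = d⁻¹ (h d h⁻¹)` lies in M and centralises g
        set x := ⁅d⁻¹, h⁆ with hx
        have hxM : x ∈ M := hmemM _ _
        have hx1 : h * d * h⁻¹ = d * x := by rw [hx, commutatorElement_def]; group
        set k := ⁅h, g⁆ with hk
        have hkM : k ∈ M := hmemM _ _
        have e1 : (d * x) * (k * g) = (k * g) * (d * x) := by
          rw [← hx1, show k * g = h * g * h⁻¹ by rw [hk, commutatorElement_def]; group]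
          calc h * d * h⁻¹ * (h * g * h⁻¹) = h * (d * g) * h⁻¹ := by group
            _ = h * (g * d) * h⁻¹ := by rw [hmy]
            _ = _ := by group
        have e2 : x * g = g * x := by
          have l1 : (d * x) * (k * g) = k * d * (x * g) := by
            calc (d * x) * (k * g) = d * (x * k) * g := by group
              _ = (d * k) * (x * g) := by rw [hab x hxM k hkM]; group
              _ = _ := by rw [← hdM k hkM]
          have l2 : (k * g) * (d * x) = k * d * (g * x) := by
            calc (k * g) * (d * x) = k * (g * d) * x := by group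
              _ = k * (d * g) * x := by rw [hmy]
              _ = _ := by group
          exact mul_left_cancel (l1.symm.trans (e1.trans l2))
        have := hgfpf x hxM e2
        rw [this, mul_one] at hx1
        calc h * d = h * d * h⁻¹ * h := by group
          _ = d * h := by rw [hx1]
      rw [hZ, Subgroup.mem_bot, hd, inv_mul_eq_one] at hdc
      exact hdc ▸ hm
    have hfpf : ∀ y ∉ M, ∀ x ∈ M, x * y = y * x → x = 1 := fun y hy =>
      (key y).resolve_left fun h => hy (hCM y h)
    have hgM : g ∉ M := fun h => hg fun x hx => hab x hx g h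
    -- the complement
    let A : Subgroup Q := Subgroup.centralizer {g}
    have hAM : ∀ a ∈ A, a ∈ M → a = 1 := fun a ha haM =>
      hgfpf a haM (Subgroup.mem_centralizer_singleton_iff.1 ha)
    haveI hAc : IsMulCommutative A := ⟨⟨fun a b => by
      have h1 : ⁅(a : Q), (b : Q)⁆ = 1 := hAM _ (by
        rw [commutatorElement_def]
        exact A.mul_mem (A.mul_mem (A.mul_mem a.2 b.2) (A.inv_mem a.2)) (A.inv_mem b.2)) (hmemM _ _)
      exact Subtype.ext (commutatorElement_eq_one_iff_mul_comm.1 h1)⟩⟩
    have hAfix : ∀ a ∈ A, a ≠ 1 → ∀ x ∈ M, x * a = a * x → x = 1 := fun a ha h1 =>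
      hfpf a fun haM => h1 (hAM a ha haM)
    have hcyA : IsCyclic A := by
      haveI := hcomm
      exact Cfsg.Agent.S0041.result A M hna
        (Subgroup.normalizer_eq_top (H := M) ▸ le_top) (fun a ha h1 => by
          rw [eq_bot_iff]
          intro x hx
          obtain ⟨hxM, hxa⟩ := Subgroup.mem_inf.1 hx
          exact Subgroup.mem_bot.2 (hAfix a ha h1 x hxM
            (Subgroup.mem_centralizer_singleton_iff.1 hxa))) (Or.inl hAc)
    let π : A →* Q ⧸ M := (QuotientGroup.mk' M).comp A.subtype
    have hπs : Function.Surjective π := by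
      intro z
      obtain ⟨h, rfl⟩ := QuotientGroup.mk_surjective z
      obtain ⟨m, hm, hmh⟩ := hsplit g hgfpf h
      refine ⟨⟨m⁻¹ * h, Subgroup.mem_centralizer_singleton_iff.2 hmh⟩, ?_⟩
      show ((m⁻¹ * h : Q) : Q ⧸ M) = (h : Q ⧸ M)
      rw [QuotientGroup.mk_mul, (QuotientGroup.eq_one_iff _).2 (M.inv_mem hm), one_mul]
    have hπi : Function.Injective π := by
      rw [injective_iff_map_eq_one]
      exact fun a ha => Subtype.ext (hAM a a.2 ((QuotientGroup.eq_one_iff _).1 ha))
    refine ⟨isCyclic_of_surjective π hπs, ?_, ?_, hfpf⟩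
    · have hne : M.index ≠ 1 := fun h => hgM (by rw [Subgroup.index_eq_one.1 h]; trivial)
      have := Subgroup.index_ne_zero_of_finite (H := M)
      show 1 < M.index
      omega
    · have hcard : Nat.card A = M.index := Nat.card_congr (Equiv.ofBijective π ⟨hπi, hπs⟩)
      rw [← hcard]
      letI : MulAction A {x : M // x ≠ 1} :=
        { smul := fun a x => ⟨⟨(a : Q) * x.1 * (a : Q)⁻¹,
            (Subgroup.commutator_normal ⊤ ⊤).conj_mem _ x.1.2 _⟩, fun h => x.2 (Subtype.ext (by
              have := congrArg Subtype.val h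
              simpa using this))⟩
          one_smul := fun x => Subtype.ext (Subtype.ext (by
            show (1 : Q) * x.1 * (1 : Q)⁻¹ = x.1
            simp))
          mul_smul := fun a b x => Subtype.ext (Subtype.ext (by
            show ((a : Q) * b) * x.1 * ((a : Q) * b)⁻¹ = (a : Q) * ((b : Q) * x.1 * (b : Q)⁻¹) * (a : Q)⁻¹
            group)) }
      have hstab : ∀ x : {x : M // x ≠ 1}, MulAction.stabilizer A x = ⊥ := by
        intro x
        rw [eq_bot_iff]
        intro a ha
        rw [Subgroup.mem_bot]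
        by_contra h1
        have h2 : (a : Q) * x.1 * (a : Q)⁻¹ = x.1 :=
          congrArg (fun t : {x : M // x ≠ 1} => ((t.1 : M) : Q)) (MulAction.mem_stabilizer_iff.1 ha)
        exact x.2 (Subtype.ext (hAfix a a.2 (fun h => h1 (Subtype.ext h)) x.1 x.1.2
          (mul_inv_eq_iff_eq_mul.1 h2).symm))
      have hc1 : Nat.card {x : M // x ≠ 1} = Nat.card M - 1 := by
        haveI := Fintype.ofFinite M
        rw [Nat.card_eq_fintype_card, Nat.card_eq_fintype_card, Fintype.card_subtype_compl,
          Fintype.card_subtype_eq]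
      refine ⟨Nat.card (MulAction.orbitRel.Quotient A {x : M // x ≠ 1}), ?_⟩
      rw [← hc1, Nat.card_congr (MulAction.selfEquivOrbitsQuotientProd hstab), Nat.card_prod,
        mul_comm]
  · refine Or.inl ?_
    have hMZ : M ≤ Subgroup.center Q := hmin _ inferInstance hZ
    have hzp : ∀ z ∈ Subgroup.center Q, z ≠ 1 → M ≤ Subgroup.zpowers z := by
      intro z hz hz1
      refine hmin _ ⟨fun x hx g => ?_⟩ (by simpa [Subgroup.zpowers_eq_bot] using hz1)
      obtain ⟨k, rfl⟩ := Subgroup.mem_zpowers_iff.1 hx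
      have : g * z ^ k = z ^ k * g :=
        Subgroup.mem_center_iff.1 ((Subgroup.center Q).zpow_mem hz k) g
      rw [this, mul_inv_cancel_right]
      exact Subgroup.mem_zpowers_iff.2 ⟨k, rfl⟩
    obtain ⟨m, hm, hm1⟩ := (Subgroup.ne_bot_iff_exists_ne_one.1 hna).elim
      fun a ha => (⟨a, a.2, fun h => ha (Subtype.ext h)⟩ : ∃ m : Q, m ∈ M ∧ m ≠ 1)
    have hom : orderOf m = q := orderOf_eq_prime (hexp m hm) hm1
    have hZq : IsPGroup q (Subgroup.center Q) := by
      rw [IsPGroup.iff_card]
      refine ⟨_, Nat.eq_prime_pow_of_unique_prime_dvd Nat.card_pos.ne' fun {r} hr hrd => ?_⟩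
      haveI : Fact r.Prime := ⟨hr⟩
      obtain ⟨z, hz⟩ := exists_prime_orderOf_dvd_card' r hrd
      have hz1 : (z : Q) ≠ 1 := fun h => hr.ne_one (by
        rw [← hz, orderOf_eq_one_iff]; exact Subtype.ext h)
      have := hzp z z.2 hz1 hm
      have hdvd : orderOf m ∣ orderOf (z : Q) := by
        obtain ⟨k, hk⟩ := Subgroup.mem_zpowers_iff.1 this
        rw [← hk]
        exact orderOf_dvd_of_pow_eq_one (by
          rw [← zpow_natCast, ← zpow_mul, mul_comm, zpow_mul, zpow_natCast,
            pow_orderOf_eq_one, one_zpow])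
      rw [hom, Subgroup.orderOf_coe, hz] at hdvd
      exact ((Nat.prime_dvd_prime_iff_eq hq hr).1 hdvd).symm
    intro x
    have hxq : x ^ q ∈ Subgroup.center Q := by
      refine Subgroup.mem_center_iff.2 fun y => ?_
      set c := ⁅y, x⁆ with hc
      have hcc : ∀ w : Q, w * c = c * w := Subgroup.mem_center_iff.1 (hMZ (hmemM y x))
      have e1 : ∀ n : ℕ, y * x ^ n * y⁻¹ = c ^ n * x ^ n := by
        intro n
        rw [← Commute.mul_pow (show Commute c x from (hcc x).symm) n]
        rw [← conj_pow]
        congr 1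
        rw [hc, commutatorElement_def]; group
      have := e1 q
      rw [hexp c (hmemM y x), one_mul, mul_inv_eq_iff_eq_mul] at this
      exact this
    obtain ⟨k, hk⟩ := hZq ⟨x ^ q, hxq⟩
    refine ⟨1 + k, ?_⟩
    rw [pow_add, pow_mul, pow_one]
    exact congrArg Subtype.val hk

end CfsgLib.DegGraph
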