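import Cfsg.Agent.Lib.DegGraph.Det
import Cfsg.Agent.Lib.Char.Twist
import Mathlib.GroupTheory.Index

/-!
# Orbits of linear characters of a normal subgroup and determinants
-/

set_option autoImplicit false
set_option linter.style.haveILetI false

namespace CfsgLib.DegGraph

open Cfsg CfsgLib

universe u v

/-- A function whose fibres are the right cosets of `T` takes `[H : T]` values. -/
theorem card_range_eq_index {H : Type u} [Group H] {α : Type v} (f : H → α) (T : Subgroup H)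
    (h : ∀ a b, f a = f b ↔ a * b⁻¹ ∈ T) : Nat.card (Set.range f) = T.index := by
  have hwd : ∀ a b : H, f a⁻¹ = f b⁻¹ ↔ a⁻¹ * b ∈ T := fun a b => by rw [h, inv_inv]
  let F : H ⧸ T → Set.range f := fun q =>
    Quotient.liftOn' q (fun a => (⟨f a⁻¹, a⁻¹, rfl⟩ : Set.range f))
      (fun a b hab => Subtype.ext ((hwd a b).2 (QuotientGroup.leftRel_apply.1 hab)))
  refine (Nat.card_eq_of_bijective F ⟨?_, ?_⟩).symm
  · intro p q
    refine Quotient.inductionOn₂' p q fun a b hab => ?_
    exact Quotient.sound' (QuotientGroup.leftRel_apply.2 ((hwd a b).1 (congrArg Subtype.val hab)))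
  · rintro ⟨-, a, rfl⟩
    exact ⟨((a⁻¹ : H) : H ⧸ T), Subtype.ext (congrArg f (inv_inv a))⟩

variable {G : Type u} [Group G]

theorem index_inf_coprime [Finite G] (T S : Subgroup G) (h : Nat.Coprime T.index S.index) :
    (T ⊓ S).index = T.index * S.index :=
  le_antisymm Subgroup.index_inf_le (Nat.le_of_dvd
    (Nat.pos_of_ne_zero Subgroup.index_ne_zero_of_finite)
    (h.mul_dvd_of_dvd_of_dvd (Subgroup.index_dvd_of_le inf_le_left)
      (Subgroup.index_dvd_of_le inf_le_right)))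

/-- With coprime indices cosets meet. -/
theorem exists_common [Finite G] (T S : Subgroup G) (h : Nat.Coprime T.index S.index) (a b : G) :
    ∃ k, k * a⁻¹ ∈ T ∧ k * b⁻¹ ∈ S := by
  let F : G ⧸ (T ⊓ S) → (G ⧸ T) × (G ⧸ S) := fun q =>
    Quotient.liftOn' q (fun x => ((x : G ⧸ T), (x : G ⧸ S))) (fun x y hxy => by
      have := QuotientGroup.leftRel_apply.1 hxy
      exact Prod.ext (QuotientGroup.eq.2 this.1) (QuotientGroup.eq.2 this.2))
  have hinj : Function.Injective F := by
    intro p q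
    refine Quotient.inductionOn₂' p q fun x y hxy => ?_
    refine Quotient.sound' (QuotientGroup.leftRel_apply.2 ⟨?_, ?_⟩)
    · exact QuotientGroup.eq.1 (congrArg Prod.fst hxy)
    · exact QuotientGroup.eq.1 (congrArg Prod.snd hxy)
  have hsurj : Function.Surjective F := by
    refine (Nat.bijective_iff_injective_and_card F).2 ⟨hinj, ?_⟩ |>.2
    rw [Nat.card_prod]
    exact index_inf_coprime T S h
  obtain ⟨q, hq⟩ := hsurj ((a⁻¹ : G), (b⁻¹ : G))
  obtain ⟨x, rfl⟩ := QuotientGroup.mk_surjective q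
  refine ⟨x⁻¹, ?_, ?_⟩
  · exact QuotientGroup.eq.1 (congrArg Prod.fst hq)
  · exact QuotientGroup.eq.1 (congrArg Prod.snd hq)

variable {N : Subgroup G} [N.Normal]

/-- Conjugation of a linear character. -/
def cj (g : G) (ν : N →* ℂˣ) : N →* ℂˣ := ν.comp (MulAut.conjNormal g : MulAut N).toMonoidHom

theorem coe_cj (g : G) (ν : N →* ℂˣ) :
    (fun n => (cj g ν n : ℂ)) = CharTwist.conjFun N (fun n => (ν n : ℂ)) g := rfl

theorem cj_one (ν : N →* ℂˣ) : cj (1 : G) ν = ν := by
  refine MonoidHom.ext fun n => congrArg ν (Subtype.ext ?_)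
  show (1 : G) * n * (1 : G)⁻¹ = n
  simp

theorem cj_mul (g h : G) (ν : N →* ℂˣ) : cj (g * h) ν = cj h (cj g ν) := by
  refine MonoidHom.ext fun n => congrArg ν (Subtype.ext ?_)
  show g * h * n * (g * h)⁻¹ = g * (h * n * h⁻¹) * g⁻¹
  group

theorem cj_hom_mul (g : G) (ν μ : N →* ℂˣ) : cj g (ν * μ) = cj g ν * cj g μ := rfl

theorem cj_hom_pow (g : G) (ν : N →* ℂˣ) (k : ℕ) : cj g (ν ^ k) = cj g ν ^ k := rfl

theorem cj_hom_one (g : G) : cj g (1 : N →* ℂˣ) = 1 := rfl

/-- The stabiliser of a linear character. -/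
def stab (ν : N →* ℂˣ) : Subgroup G := CharTwist.inertia N (fun n => (ν n : ℂ))

theorem mem_stab {ν : N →* ℂˣ} {g : G} : g ∈ stab ν ↔ cj g ν = ν := by
  rw [stab, CharTwist.mem_inertia, ← coe_cj]
  exact ⟨fun h => MonoidHom.ext fun n => Units.ext (congrFun h n), fun h => by rw [h]⟩

theorem cj_eq_cj_iff {ν : N →* ℂˣ} {a b : G} : cj a ν = cj b ν ↔ a * b⁻¹ ∈ stab ν := by
  rw [mem_stab, cj_mul]
  constructor
  · intro h
    rw [h, ← cj_mul, mul_inv_cancel, cj_one]
  · intro h
    have := congrArg (cj b) h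
    rwa [← cj_mul, inv_mul_cancel, cj_one] at this

theorem stab_mul_le (ν μ : N →* ℂˣ) : stab ν ⊓ stab μ ≤ stab (ν * μ) := fun g hg => by
  rw [mem_stab, cj_hom_mul, mem_stab.1 hg.1, mem_stab.1 hg.2]

theorem stab_le_pow (ν : N →* ℂˣ) (k : ℕ) : stab ν ≤ stab (ν ^ k) := fun g hg => by
  rw [mem_stab, cj_hom_pow, mem_stab.1 hg]

variable [Fintype G]

open scoped Classical in
/-- The orbit of a linear character. -/
noncomputable def orb (ν : N →* ℂˣ) : Finset (N →* ℂˣ) :=
  Finset.univ.image fun g : G => cj g ν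

theorem mem_orb {ν x : N →* ℂˣ} : x ∈ orb ν ↔ ∃ g : G, cj g ν = x := by
  classical
  simp [orb]

theorem card_orb (ν : N →* ℂˣ) : (orb ν).card = (stab ν).index := by
  classical
  rw [← card_range_eq_index (fun g : G => cj g ν) (stab ν) fun a b => cj_eq_cj_iff,
    ← Nat.card_eq_finsetCard]
  exact Nat.card_congr (Equiv.subtypeEquivRight fun x => by rw [mem_orb]; rfl)

/-- If the orbit lengths of `μ`, `μ'` and of `μ μ'`, `μ` are coprime and the one of `μ'` is prime
to `r`, then `μ` is invariant. -/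
theorem stab_eq_top_of_coprime {r : ℕ} (hr : r.Prime) {μ μ' : N →* ℂˣ} (hμ : μ ^ r = 1)
    (hts : Nat.Coprime (stab μ).index (stab μ').index)
    (htc : Nat.Coprime (stab μ).index (stab (μ * μ')).index)
    (hs : ¬ r ∣ (stab μ').index) : stab μ = ⊤ := by
  classical
  set T := stab μ
  set S := stab μ'
  set U := stab (μ * μ')
  have h1 : T ⊓ S ≤ T ⊓ U := le_inf inf_le_left (stab_mul_le μ μ')
  have h2 : T ⊓ U ≤ T ⊓ S := by
    refine le_inf inf_le_left fun g hg => ?_
    have hU := mem_stab.1 hg.2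
    rw [cj_hom_mul, mem_stab.1 hg.1] at hU
    exact mem_stab.2 (mul_left_cancel hU)
  have hcs : U.index = S.index := by
    have h3 := congrArg Subgroup.index (le_antisymm h1 h2)
    rw [index_inf_coprime T S hts, index_inf_coprime T U htc] at h3
    exact (Nat.eq_of_mul_eq_mul_left (Nat.pos_of_ne_zero Subgroup.index_ne_zero_of_finite) h3).symm
  have hsub : ∀ x ∈ orb μ, (orb μ').image (x * ·) = orb (μ * μ') := by
    intro x hx
    refine Finset.eq_of_subset_of_card_le ?_ ?_
    · intro z hz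
      obtain ⟨y, hy, rfl⟩ := Finset.mem_image.1 hz
      obtain ⟨a, rfl⟩ := mem_orb.1 hx
      obtain ⟨b, rfl⟩ := mem_orb.1 hy
      obtain ⟨k, hka, hkb⟩ := exists_common T S hts a b
      exact mem_orb.2 ⟨k, by rw [cj_hom_mul, cj_eq_cj_iff.2 hka, cj_eq_cj_iff.2 hkb]⟩
    · rw [Finset.card_image_of_injective _ (mul_right_injective x), card_orb, card_orb]
      exact hcs.le
  rw [Subgroup.eq_top_iff']
  intro g
  rw [mem_stab]
  have hμm : μ ∈ orb μ := mem_orb.2 ⟨1, cj_one μ⟩
  have hgm : cj g μ ∈ orb μ := mem_orb.2 ⟨g, rfl⟩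
  have h3 := congrArg (fun s : Finset (N →* ℂˣ) => ∏ z ∈ s, z)
    ((hsub _ hgm).trans (hsub _ hμm).symm)
  refine MonoidHom.ext fun n => ?_
  have h4 := DFunLike.congr_fun h3 n
  simp only [Finset.prod_image (mul_right_injective _).injOn, MonoidHom.finsetProd_apply,
    MonoidHom.mul_apply, Finset.prod_mul_distrib, Finset.prod_const, mul_left_inj] at h4
  have h5 : (cj g μ n / μ n) ^ (orb μ').card = 1 := by rw [div_pow, h4, div_self']
  have h6 : (cj g μ n / μ n) ^ r = 1 := by
    rw [div_pow, div_eq_one]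
    have e1 : μ (MulAut.conjNormal g n) ^ r = 1 := DFunLike.congr_fun hμ (MulAut.conjNormal g n)
    have e2 : μ n ^ r = 1 := DFunLike.congr_fun hμ n
    show μ (MulAut.conjNormal g n) ^ r = μ n ^ r
    rw [e1, e2]
  have h7 := pow_gcd_eq_one.2 ⟨h5, h6⟩
  rw [card_orb, Nat.Coprime.gcd_eq_one (hr.coprime_iff_not_dvd.2 hs).symm, pow_one] at h7
  exact div_eq_one.1 h7

end CfsgLib.DegGraph
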