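import Cfsg.Agent.Lib.DegGraph.Orbit
import Cfsg.Agent.Lib.DegGraph.Cyclic
import Cfsg.Agent.Lib.Char.Normal
import Cfsg.Prelude.Def_DegreeGraph

/-!
# Determinants of restrictions to subgroups of the derived subgroup
-/

set_option autoImplicit false
set_option linter.style.haveILetI false

namespace CfsgLib.DegGraph

open Cfsg CfsgLib
open scoped commutatorElement

universe u v

variable {G : Type u} [Group G]

section PiRep

variable {H : Type u} [Group H] {ι : Type} {V : Type v} [AddCommGroup V] [Module ℂ V]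

/-- A finite family of representations on one space, side by side. -/
def piRep (σ : ι → Representation ℂ H V) : Representation ℂ H (ι → V) where
  toFun g := LinearMap.pi fun i => (σ i g) ∘ₗ LinearMap.proj i
  map_one' := by
    apply LinearMap.ext; intro x; funext i; simp
  map_mul' a b := by
    apply LinearMap.ext; intro x; funext i; simp

theorem piRep_character [Fintype ι] [FiniteDimensional ℂ V] (σ : ι → Representation ℂ H V)
    (g : H) : (piRep σ).character g = ∑ i, (σ i).character g := by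
  classical
  rw [Representation.character, Char.trace_pi]
  refine Finset.sum_congr rfl fun i _ => ?_
  rw [Representation.character]
  congr 1
  apply LinearMap.ext
  intro v
  simp [piRep]

theorem piRep_det [Fintype ι] [FiniteDimensional ℂ V] (σ : ι → Representation ℂ H V)
    (g : H) : LinearMap.det (piRep σ g) = ∏ i, LinearMap.det (σ i g) :=
  LinearMap.det_pi fun i => σ i g

end PiRep

/-- A representation has trivial determinant on the derived subgroup. -/
theorem det_eq_one_of_le_commutator {V : Type v} [AddCommGroup V] [Module ℂ V]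
    (ρ : Representation ℂ G V) {g : G} (hg : g ∈ commutator G) : LinearMap.det (ρ g) = 1 := by
  let δ : G →* ℂˣ := MonoidHom.toHomUnits (LinearMap.det.comp ρ)
  have h : g ∈ δ.ker := Abelianization.commutator_subset_ker δ hg
  exact congrArg Units.val (MonoidHom.mem_ker.1 h)

variable {N : Subgroup G}

/-- The linear characters in the restriction of a character multiply to one. -/
theorem prod_eq_one [Finite G] (hNG : N ≤ commutator G) {χ : G → ℂ} (hχ : Cfsg.IsCharacter G χ)
    {ι : Type} [Fintype ι] (L : ι → (N →* ℂˣ)) (h : ∀ n : N, χ n = ∑ i, (L i n : ℂ)) (n : N) :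
    ∏ i, L i n = 1 := by
  obtain ⟨d, ρ, rfl⟩ := hχ
  have hL : ∀ (i : ι) (x : N), (Char.linearRep (L i)).character x = (L i x : ℂ) := fun i x =>
    congrFun (Char.linearRep_character (L i)) x
  have hchar : (piRep fun i => Char.linearRep (L i)).character =
      Representation.character (ρ.comp N.subtype : Representation ℂ N (Fin d → ℂ)) := by
    funext x
    rw [piRep_character, Finset.sum_congr rfl fun i _ => hL i x, ← h x]
    rfl
  have h1 := det_eq_of_character_eq _ _ hchar n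
  rw [piRep_det] at h1
  have h2 : ∀ i, LinearMap.det (Char.linearRep (L i) n) = (L i n : ℂ) := by
    intro i
    rw [LinearMap.det_ring]
    simp [Char.linearRep]
  rw [Finset.prod_congr rfl fun i _ => h2 i] at h1
  apply Units.ext
  rw [Units.coe_prod, Units.val_one, h1]
  exact det_eq_one_of_le_commutator ρ (hNG n.2)

/-- If the restrictions of two characters differ by a linear factor and multiplicities, that
factor has bounded order. -/
theorem twist_pow_eq_one [Finite G] (hNG : N ≤ commutator G) {χ₀ χ₁ : G → ℂ}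
    (h₀ : Cfsg.IsCharacter G χ₀) (h₁ : Cfsg.IsCharacter G χ₁) {d₀ : ℕ} (hd : χ₀ 1 = d₀)
    (a₀ a₁ : ℕ) (ν : N →* ℂˣ)
    (h : ∀ n : N, (a₁ : ℂ) * ((ν n : ℂ) * χ₀ n) = (a₀ : ℂ) * χ₁ n) (n : N) :
    ν n ^ (d₀ * a₁) = 1 := by
  obtain ⟨n₀, ρ₀, rfl⟩ := h₀
  obtain ⟨n₁, ρ₁, rfl⟩ := h₁
  have hn : n₀ = d₀ := by
    rw [Representation.char_one] at hd
    simpa using Nat.cast_injective (R := ℂ) hd
  subst hn
  let σ₀ : Representation ℂ N (Fin n₀ → ℂ) := ρ₀.comp N.subtype
  let σ₁ : Representation ℂ N (Fin n₁ → ℂ) := ρ₁.comp N.subtype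
  have hchar : (piRep fun _ : Fin a₁ => twistRep ν σ₀).character =
      (piRep fun _ : Fin a₀ => σ₁).character := by
    funext x
    rw [piRep_character, piRep_character, Finset.sum_const, Finset.sum_const, Finset.card_univ,
      Finset.card_univ, Fintype.card_fin, Fintype.card_fin, nsmul_eq_mul, nsmul_eq_mul,
      twistRep_character]
    exact h x
  have h1 := det_eq_of_character_eq _ _ hchar n
  rw [piRep_det, piRep_det, Finset.prod_const, Finset.prod_const, Finset.card_univ,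
    Finset.card_univ, Fintype.card_fin, Fintype.card_fin] at h1
  have e1 : LinearMap.det (σ₁ n) = 1 := det_eq_one_of_le_commutator ρ₁ (hNG n.2)
  have e0 : LinearMap.det (σ₀ n) = 1 := det_eq_one_of_le_commutator ρ₀ (hNG n.2)
  have e2 : LinearMap.det (twistRep ν σ₀ n) = (ν n : ℂ) ^ n₀ := by
    show LinearMap.det ((ν n : ℂ) • σ₀ n) = _
    rw [LinearMap.det_smul, Module.finrank_fin_fun, e0, mul_one]
  rw [e1, e2, one_pow, ← pow_mul] at h1
  exact Units.ext (by rw [Units.val_pow_eq_pow_val, h1, Units.val_one])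

/-- The function `ν · ψ`. -/
def tw (ν : N →* ℂˣ) (ψ : N → ℂ) : N → ℂ := fun n => (ν n : ℂ) * ψ n

theorem tw_one (ψ : N → ℂ) : tw 1 ψ = ψ := funext fun n => by simp [tw]

theorem tw_mul (ν μ : N →* ℂˣ) (ψ : N → ℂ) : tw (ν * μ) ψ = tw ν (tw μ ψ) :=
  funext fun n => by simp [tw, mul_assoc]

theorem isIrr_tw [Finite G] (ν : N →* ℂˣ) {ψ : N → ℂ} (hψ : Cfsg.IsIrrCharacter N ψ) :
    Cfsg.IsIrrCharacter N (tw ν ψ) := Char.IsIrrCharacter.linear_mul hψ ν

variable [N.Normal]

theorem conjFun_tw (g : G) (ν : N →* ℂˣ) (ψ : N → ℂ) :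
    CharTwist.conjFun N (tw ν ψ) g = tw (cj g ν) (CharTwist.conjFun N ψ g) := rfl

variable [Fintype G] [Fintype N]

/-- `X` lies over `ψ`. -/
def Over (X : IrrCharacter G) (ψ : N → ℂ) : Prop :=
  Cfsg.classInner (fun n : N => (X : G → ℂ) n) ψ ≠ 0

theorem exists_over' (ψ : N → ℂ) (hψ : Cfsg.IsIrrCharacter N ψ) : ∃ X : IrrCharacter G, Over X ψ :=
  Blk83.exists_over N ⟨ψ, hψ⟩

/-- Clifford's formula in numbers. -/
theorem exists_restrict {X : IrrCharacter G} {ψ : N → ℂ} (hψ : Cfsg.IsIrrCharacter N ψ)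
    (h : Over X ψ) : ∃ a : ℕ,
      charDegree (X : G → ℂ) = a * (CharTwist.inertia N ψ).index * charDegree ψ ∧
      ∀ n : N, (X : G → ℂ) n = (a : ℂ) *
        ∑ᶠ φ ∈ {φ : N → ℂ | ∃ g : G, φ = CharTwist.conjFun N ψ g}, φ n := by
  obtain ⟨a, ha⟩ := Char.IsCharacter.exists_nat_classInner
    (Char.IsCharacter.restrict (Char.IsIrrCharacter.isCharacter X.2) N) hψ
  refine ⟨a, Nat.cast_injective (R := ℂ) ?_, fun n => ?_⟩
  · have h1 := CfsgLib.Clifford.apply_one_eq N X.2 hψ h
    rw [ha, Blk83.one_eq X] at h1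
    push_cast
    rw [h1, show (charDegree ψ : ℂ) = ψ 1 from CharTools.irr_degree_cast ⟨ψ, hψ⟩]
  · have h2 := congrFun (Char.restrict_eq_smul_sum_conj N (X : G → ℂ) X.2 ψ hψ h) n
    rw [ha] at h2
    have hfin : {φ : N → ℂ | ∃ g : G, φ = CharTwist.conjFun N ψ g}.Finite :=
      (Set.finite_range fun g : G => CharTwist.conjFun N ψ g).subset (by
        rintro _ ⟨g, rfl⟩; exact ⟨g, rfl⟩)
    rw [finsum_mem_eq_finite_toFinset_sum _ hfin, Pi.smul_apply, Finset.sum_apply,
      smul_eq_mul] at h2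
    rw [finsum_mem_eq_finite_toFinset_sum _ hfin]
    exact h2

/-- A prime dividing the order of a nontrivial twist by an invariant linear character divides one
of the degrees. -/
theorem dvd_degree_of_invariant (hNG : N ≤ commutator G) {r : ℕ} (hr : r.Prime) {ν : N →* ℂˣ}
    (hν : ∀ g : G, cj g ν = ν) (hνr : ν ^ r = 1) (hν1 : ν ≠ 1) {ψ : N → ℂ}
    (hψ : Cfsg.IsIrrCharacter N ψ) {X₀ X₁ : IrrCharacter G} (h₀ : Over X₀ ψ)
    (h₁ : Over X₁ (tw ν ψ)) :
    r ∣ charDegree (X₀ : G → ℂ) ∨ r ∣ charDegree (X₁ : G → ℂ) := by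
  classical
  by_contra hc
  rw [not_or] at hc
  obtain ⟨a₀, -, ha₀⟩ := exists_restrict hψ h₀
  obtain ⟨a₁, hd₁, ha₁⟩ := exists_restrict (isIrr_tw ν hψ) h₁
  have hinj : Function.Injective (tw ν) := fun f f' hff => funext fun n =>
    mul_left_cancel₀ (Units.ne_zero _) (congrFun hff n)
  have hset : {φ : N → ℂ | ∃ g : G, φ = CharTwist.conjFun N (tw ν ψ) g} =
      tw ν '' {φ : N → ℂ | ∃ g : G, φ = CharTwist.conjFun N ψ g} := by
    ext φ
    constructor
    · rintro ⟨g, rfl⟩
      exact ⟨_, ⟨g, rfl⟩, by rw [conjFun_tw, hν g]⟩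
    · rintro ⟨_, ⟨g, rfl⟩, rfl⟩
      exact ⟨g, by rw [conjFun_tw, hν g]⟩
  have hfin : {φ : N → ℂ | ∃ g : G, φ = CharTwist.conjFun N ψ g}.Finite :=
    (Set.finite_range fun g : G => CharTwist.conjFun N ψ g).subset (by
      rintro _ ⟨g, rfl⟩; exact ⟨g, rfl⟩)
  have h : ∀ n : N, (a₁ : ℂ) * ((ν n : ℂ) * (X₀ : G → ℂ) n) = (a₀ : ℂ) * (X₁ : G → ℂ) n := by
    intro n
    rw [ha₀ n, ha₁ n, hset, finsum_mem_image hinj.injOn,
      finsum_mem_eq_finite_toFinset_sum _ hfin, finsum_mem_eq_finite_toFinset_sum _ hfin]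
    simp only [tw, ← Finset.mul_sum]
    ring
  apply hν1
  refine MonoidHom.ext fun n => ?_
  have h1 := twist_pow_eq_one hNG (Char.IsIrrCharacter.isCharacter X₀.2)
    (Char.IsIrrCharacter.isCharacter X₁.2) (CharTools.irr_degree_cast X₀).symm a₀ a₁ ν h n
  have h2 : ν n ^ r = 1 := DFunLike.congr_fun hνr n
  have hcop : ¬ r ∣ charDegree (X₀ : G → ℂ) * a₁ := fun hd => by
    rcases (Nat.Prime.dvd_mul hr).1 hd with h3 | h3
    · exact hc.1 h3
    · exact hc.2 (hd₁ ▸ dvd_mul_of_dvd_left (dvd_mul_of_dvd_left h3 _) _)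
  have h4 := pow_gcd_eq_one.2 ⟨h1, h2⟩
  rw [Nat.Coprime.gcd_eq_one (hr.coprime_iff_not_dvd.2 hcop).symm, pow_one] at h4
  exact h4

/-- Over `λ ι` with `ι` invariant and `λ^r = 1`, the order of `ι^r` divides the degree. -/
theorem pow_mul_degree_eq_one (hNG : N ≤ commutator G) {r : ℕ} {ι l : N →* ℂˣ}
    (hι : ∀ g : G, cj g ι = ι) (hl : l ^ r = 1) {X : IrrCharacter G}
    (h : Over X (fun n => ((l * ι) n : ℂ))) (n : N) :
    ι n ^ (r * charDegree (X : G → ℂ)) = 1 := by
  classical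
  have hψ : Cfsg.IsIrrCharacter N (fun n => ((l * ι) n : ℂ)) := Char.isIrrCharacter_linear _
  obtain ⟨a, hd, ha⟩ := exists_restrict hψ h
  have hdeg1 : charDegree (fun n => ((l * ι) n : ℂ)) = 1 := by simp [charDegree]
  rw [hdeg1, mul_one, show (CharTwist.inertia N fun n => ((l * ι) n : ℂ)) = stab (l * ι) from rfl,
    ← card_orb] at hd
  have hset : {φ : N → ℂ | ∃ g : G, φ = CharTwist.conjFun N (fun n => ((l * ι) n : ℂ)) g} =
      (fun (z : N →* ℂˣ) (m : N) => (z m : ℂ)) '' (orb (l * ι) : Set (N →* ℂˣ)) := by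
    ext φ
    constructor
    · rintro ⟨g, rfl⟩
      exact ⟨cj g (l * ι), mem_orb.2 ⟨g, rfl⟩, rfl⟩
    · rintro ⟨z, hz, rfl⟩
      obtain ⟨g, rfl⟩ := mem_orb.1 hz
      exact ⟨g, rfl⟩
  have hcoe : Function.Injective (fun (z : N →* ℂˣ) (m : N) => (z m : ℂ)) := fun z z' hzz =>
    MonoidHom.ext fun m => Units.ext (congrFun hzz m)
  let O := orb (G := G) (l * ι)
  let f : O ≃ Fin O.card := O.equivFin
  let L : Fin O.card × Fin a → (N →* ℂˣ) := fun i => (f.symm i.1 : N →* ℂˣ)
  have hsum : ∀ m : N, (X : G → ℂ) m = ∑ i, (L i m : ℂ) := by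
    intro m
    rw [ha m, hset, finsum_mem_image hcoe.injOn, finsum_mem_coe_finset, Fintype.sum_prod_type]
    simp only [L, Finset.sum_const, Finset.card_univ, Fintype.card_fin, nsmul_eq_mul]
    rw [← Finset.mul_sum, Equiv.sum_comp f.symm (fun z : O => ((z : N →* ℂˣ) m : ℂ)),
      Finset.sum_coe_sort O (fun z => (z m : ℂ))]
  have hp := prod_eq_one hNG (Char.IsIrrCharacter.isCharacter X.2) L hsum n
  have hval : ∀ i, L i n ^ r = ι n ^ r := by
    intro i
    obtain ⟨g, hg⟩ := mem_orb.1 (f.symm i.1).2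
    have : L i = cj g l * ι := by
      show (f.symm i.1 : N →* ℂˣ) = _
      rw [← hg, cj_hom_mul, hι g]
    rw [this, MonoidHom.mul_apply, mul_pow,
      show cj g l n ^ r = 1 from DFunLike.congr_fun hl (MulAut.conjNormal g n), one_mul]
  have := congrArg (· ^ r) hp
  simp only [one_pow, ← Finset.prod_pow, hval, Finset.prod_const, Finset.card_univ,
    Fintype.card_prod, Fintype.card_fin] at this
  rw [hd, mul_comm a, pow_mul]
  exact this

end CfsgLib.DegGraph
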