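import Cfsg.Agent.Lib.DegGraph.Relative

/-!
# Connected components of the relative common-divisor graph
-/

set_option autoImplicit false
set_option linter.style.haveILetI false
set_option linter.unusedSectionVars false

namespace CfsgLib.DegGraph

open Cfsg CfsgLib

universe u

variable {G : Type u} [Group G] [Fintype G] {N : Subgroup G} [N.Normal] [Fintype N]

theorem exists_linear_orderOf {r : ℕ} (hr : r.Prime) (hm : r ∣ ⁅N, N⁆.relIndex N) :
    ∃ ν : N →* ℂˣ, ν ^ r = 1 ∧ ν ≠ 1 := by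
  classical
  haveI : Fact r.Prime := ⟨hr⟩
  have hsub : ⁅N, N⁆.subgroupOf N = commutator N := by
    rw [← Subgroup.map_subtype_commutator, Subgroup.subgroupOf,
      Subgroup.comap_map_eq_self_of_injective N.subtype_injective]
  have hcard : Nat.card (Abelianization N →* ℂˣ) = ⁅N, N⁆.relIndex N := by
    rw [CommGroup.card_monoidHom_of_hasEnoughRootsOfUnity]
    show (commutator N).index = _
    rw [← hsub]
    rfl
  haveI : Finite (Abelianization N →* ℂˣ) := Nat.finite_of_card_ne_zero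
    (by rw [CommGroup.card_monoidHom_of_hasEnoughRootsOfUnity]; exact Nat.card_pos.ne')
  obtain ⟨l, hl⟩ := exists_prime_orderOf_dvd_card' (G := Abelianization N →* ℂˣ) r (hcard ▸ hm)
  refine ⟨l.comp Abelianization.of, MonoidHom.ext fun n => ?_, fun h => hr.ne_one ?_⟩
  · exact DFunLike.congr_fun (hl ▸ pow_orderOf_eq_one l) (Abelianization.of n)
  · rw [← hl, orderOf_eq_one_iff]
    refine MonoidHom.ext fun x => ?_
    obtain ⟨n, rfl⟩ := QuotientGroup.mk_surjective x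
    exact DFunLike.congr_fun h n

/-- A chosen degree over a nontrivial linear character. -/
theorem exists_degree_over {ν : N →* ℂˣ} (hν : ν ≠ 1) :
    ∃ b ∈ Cfsg.relCharDegrees N, (stab ν).index ∣ b := by
  obtain ⟨X, hX⟩ := exists_over' (G := G) (lin ν) (isIrr_lin ν)
  exact ⟨_, mem_rel_of_over (isIrr_lin ν) (lin_ne_one hν) hX, stab_index_dvd hX⟩

/-- When all degrees over the twists share a prime, they are relative degrees. -/
theorem mem_rel_of_forall_dvd {q : ℕ} (hq : q.Prime) {ψ : N → ℂ} (hψ : Cfsg.IsIrrCharacter N ψ)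
    (h : ∀ X : IrrCharacter G, Over X ψ → q ∣ charDegree (X : G → ℂ)) {X : IrrCharacter G}
    (hX : Over X ψ) : charDegree (X : G → ℂ) ∈ Cfsg.relCharDegrees N := by
  refine mem_rel_of_over hψ (fun h1 => hq.not_dvd_one ?_) hX
  have h2 := h Char.principalIrr (by
    show Cfsg.classInner (fun _ : N => (1 : ℂ)) ψ ≠ 0
    rw [h1, Char.classInner_irr_self Char.isIrrCharacter_principal]
    exact one_ne_zero)
  simpa [charDegree, Char.principalIrr_apply] using h2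

theorem stab_mul_invariant {ν μ : N →* ℂˣ} (hν : ∀ g : G, cj g ν = ν) :
    stab (ν * μ) ≤ stab μ := by
  intro g hg
  have h := mem_stab.1 hg
  rw [cj_hom_mul, hν g] at h
  exact mem_stab.2 (mul_left_cancel h)

/-- With an invariant linear character of order `r`, every degree prime to `r` is joined to a
multiple of `r`. -/
theorem exists_multiple (hNG : N ≤ commutator G) {r : ℕ} (hr : r.Prime) {ν : N →* ℂˣ}
    (hνr : ν ^ r = 1) (hν1 : ν ≠ 1) (hinv : stab (G := G) ν = ⊤) {d : ℕ}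
    (hd : d ∈ Cfsg.relCharDegrees N) (hrd : ¬ r ∣ d) :
    ∃ b, r ∣ b ∧ Conn N d b := by
  have hcj : ∀ g : G, cj g ν = ν := fun g => mem_stab.1 (hinv ▸ Subgroup.mem_top g)
  obtain ⟨q, hq, hqd, ψ, hψ, h⟩ : ∃ q, q.Prime ∧ q ∣ d ∧ ∃ ψ : N → ℂ, Cfsg.IsIrrCharacter N ψ ∧
      ∀ X : IrrCharacter G, Over X ψ ∨ Over X (tw ν ψ) → q ∣ charDegree (X : G → ℂ) := by
    rcases case_split hNG hr hd hrd with ⟨μ, -, -, -, hμd, hμt⟩ | ⟨q, ψ, hq, hqd, hψ, h⟩
    · obtain ⟨q, hq, hqt⟩ := Nat.exists_prime_and_dvd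
        (n := (stab μ).index) (fun h => hμt (Subgroup.index_eq_one.1 h))
      refine ⟨q, hq, hqt.trans hμd, lin μ, isIrr_lin μ, fun X hX => hqt.trans ?_⟩
      rcases hX with hX | hX
      · exact stab_index_dvd hX
      · rw [show tw ν (lin μ) = lin (ν * μ) from funext fun n => by simp [tw, lin]] at hX
        exact (Subgroup.index_dvd_of_le (stab_mul_invariant hcj)).trans (stab_index_dvd hX)
    · refine ⟨q, hq, hqd, ψ, hψ, fun X hX => ?_⟩
      rcases hX with hX | hX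
      · exact (h 1 (MonoidHom.ext fun _ => one_pow r) X (by rwa [tw_one])).1
      · exact (h ν hνr X hX).1
  obtain ⟨X₀, hX₀⟩ := exists_over' (G := G) ψ hψ
  obtain ⟨X₁, hX₁⟩ := exists_over' (G := G) (tw ν ψ) (isIrr_tw ν hψ)
  rcases dvd_degree_of_invariant hNG hr hcj hνr hν1 hψ hX₀ hX₁ with hdv | hdv
  · exact ⟨_, hdv, conn_of_dvd hd (mem_rel_of_forall_dvd hq hψ (fun X hX => h X (Or.inl hX)) hX₀)
      hq hqd (h _ (Or.inl hX₀))⟩
  · exact ⟨_, hdv, conn_of_dvd hd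
      (mem_rel_of_forall_dvd hq (isIrr_tw ν hψ) (fun X hX => h X (Or.inr hX)) hX₁) hq hqd
      (h _ (Or.inr hX₁))⟩

/-- The two kinds of degrees prime to `r`, without invariant characters. -/
theorem link (hNG : N ≤ commutator G) {r : ℕ} (hr : r.Prime)
    (hinv : ∀ ν : N →* ℂˣ, ν ^ r = 1 → ν ≠ 1 → stab (G := G) ν ≠ ⊤) {d : ℕ}
    (hd : d ∈ Cfsg.relCharDegrees N) (hrd : ¬ r ∣ d) :
    (∀ ν : N →* ℂˣ, ν ^ r = 1 → ν ≠ 1 →
      ∀ b ∈ Cfsg.relCharDegrees N, (stab ν).index ∣ b → Conn N d b) ∨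
    ∃ μ : N →* ℂˣ, μ ^ r = 1 ∧ μ ≠ 1 ∧ ¬ r ∣ (stab μ).index ∧ (stab μ).index ∣ d := by
  rcases case_split hNG hr hd hrd with ⟨μ, h1, h2, h3, h4, -⟩ | ⟨q, ψ, hq, hqd, hψ, h⟩
  · exact Or.inr ⟨μ, h1, h2, h3, h4⟩
  · refine Or.inl fun ν hνr hν1 b hb hνb => ?_
    obtain ⟨X, hX⟩ := exists_over' (G := G) (tw ν ψ) (isIrr_tw ν hψ)
    have hmem := mem_rel_of_forall_dvd hq (isIrr_tw ν hψ) (fun Y hY => (h ν hνr Y hY).1) hX
    exact (conn_of_dvd hd hmem hq hqd (h ν hνr X hX).1).trans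
      (conn_of_index hmem hb (hinv ν hνr hν1) (h ν hνr X hX).2 hνb)

theorem exists_link (hNG : N ≤ commutator G) {r : ℕ} (hr : r.Prime) (hm : r ∣ ⁅N, N⁆.relIndex N)
    (hinv : ∀ ν : N →* ℂˣ, ν ^ r = 1 → ν ≠ 1 → stab (G := G) ν ≠ ⊤) {d : ℕ}
    (hd : d ∈ Cfsg.relCharDegrees N) (hrd : ¬ r ∣ d) :
    ∃ ν : N →* ℂˣ, ν ^ r = 1 ∧ ν ≠ 1 ∧
      ∀ b ∈ Cfsg.relCharDegrees N, (stab ν).index ∣ b → Conn N d b := by
  rcases link hNG hr hinv hd hrd with h | ⟨μ, h1, h2, -, h4⟩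
  · obtain ⟨ν, hν, hν1⟩ := exists_linear_orderOf hr hm
    exact ⟨ν, hν, hν1, h ν hν hν1⟩
  · exact ⟨μ, h1, h2, fun b hb hμb => conn_of_index hd hb (hinv μ h1 h2) h4 hμb⟩

/-- Without invariant characters the degrees prime to `r` are joined. -/
theorem conn_of_not_dvd (hNG : N ≤ commutator G) {r : ℕ} (hr : r.Prime)
    (hm : r ∣ ⁅N, N⁆.relIndex N)
    (hinv : ∀ ν : N →* ℂˣ, ν ^ r = 1 → ν ≠ 1 → stab (G := G) ν ≠ ⊤) {a b : ℕ}
    (ha : a ∈ Cfsg.relCharDegrees N) (hb : b ∈ Cfsg.relCharDegrees N) (hra : ¬ r ∣ a)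
    (hrb : ¬ r ∣ b) : Conn N a b := by
  rcases link hNG hr hinv ha hra with hA | ⟨μ, hμr, hμ1, hμt, hμa⟩
  · obtain ⟨ν, hνr, hν1, hB⟩ := exists_link hNG hr hm hinv hb hrb
    obtain ⟨c, hc, hνc⟩ := exists_degree_over (G := G) hν1
    exact (hA ν hνr hν1 c hc hνc).trans (hB c hc hνc).symm
  rcases link hNG hr hinv hb hrb with hB | ⟨μ', hμ'r, hμ'1, hμ't, hμ'b⟩
  · obtain ⟨c, hc, hμc⟩ := exists_degree_over (G := G) hμ1
    exact (conn_of_index ha hc (hinv μ hμr hμ1) hμa hμc).trans (hB μ hμr hμ1 c hc hμc).symm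
  by_cases hts : Nat.Coprime (stab μ).index (stab μ').index
  swap
  · obtain ⟨p, hp, hpd⟩ := Nat.exists_prime_and_dvd hts
    exact conn_of_dvd ha hb hp ((hpd.trans (Nat.gcd_dvd_left _ _)).trans hμa)
      ((hpd.trans (Nat.gcd_dvd_right _ _)).trans hμ'b)
  have htc : ¬ Nat.Coprime (stab μ).index (stab (μ * μ')).index := fun h =>
    hinv μ hμr hμ1 (stab_eq_top_of_coprime hr hμr hts h hμ't)
  have hsc : ¬ Nat.Coprime (stab μ').index (stab (μ' * μ)).index := fun h =>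
    hinv μ' hμ'r hμ'1 (stab_eq_top_of_coprime hr hμ'r hts.symm h hμt)
  have hcomm : μ' * μ = μ * μ' := MonoidHom.ext fun n => mul_comm (μ' n) (μ n)
  rw [hcomm] at hsc
  have hne : μ * μ' ≠ 1 := fun h => htc (by
    rw [h, Subgroup.index_eq_one.2 (Subgroup.eq_top_iff' _ |>.2 fun g => mem_stab.2 (cj_hom_one g))]
    exact Nat.coprime_one_right _)
  obtain ⟨c, hc, hcd⟩ := exists_degree_over (G := G) hne
  obtain ⟨p, hp, hpd⟩ := Nat.exists_prime_and_dvd htc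
  obtain ⟨p', hp', hp'd⟩ := Nat.exists_prime_and_dvd hsc
  exact (conn_of_dvd ha hc hp ((hpd.trans (Nat.gcd_dvd_left _ _)).trans hμa)
    ((hpd.trans (Nat.gcd_dvd_right _ _)).trans hcd)).trans
    (conn_of_dvd hb hc hp' ((hp'd.trans (Nat.gcd_dvd_left _ _)).trans hμ'b)
    ((hp'd.trans (Nat.gcd_dvd_right _ _)).trans hcd)).symm

theorem stab_mul_le_left {r s : ℕ} (hr : r.Prime) (hs : s.Prime) (hrs : r ≠ s) {ν μ : N →* ℂˣ}
    (hν : ν ^ r = 1) (hν1 : ν ≠ 1) (hμ : μ ^ s = 1) :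
    stab (G := G) (ν * μ) ≤ stab ν ∧ ν * μ ≠ 1 := by
  haveI : Fact r.Prime := ⟨hr⟩
  have hord : orderOf ν = r := by
    have h1 : orderOf ν ∣ r := orderOf_dvd_of_pow_eq_one hν
    rcases (Nat.dvd_prime hr).1 h1 with h | h
    · exact absurd (orderOf_eq_one_iff.1 h) hν1
    · exact h
  obtain ⟨j, hj⟩ := exists_pow_eq_self_of_coprime (x := ν) (n := s)
    (by rw [hord]; exact ((Nat.coprime_primes hr hs).2 hrs).symm)
  have hpow : (ν * μ) ^ (s * j) = ν := MonoidHom.ext fun n => by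
    show (ν n * μ n) ^ (s * j) = ν n
    rw [mul_pow, pow_mul (μ n), show μ n ^ s = 1 from DFunLike.congr_fun hμ n, one_pow, mul_one,
      pow_mul]
    exact DFunLike.congr_fun hj n
  refine ⟨?_, fun h => hν1 ?_⟩
  · have := stab_le_pow (G := G) (ν * μ) (s * j)
    rwa [hpow] at this
  · rw [← hpow, h]
    exact MonoidHom.ext fun n => one_pow (s * j)

/-- Either all degrees prime to `r` are joined or all degrees are joined. -/
theorem preconn_or_conn (hNG : N ≤ commutator G) {r : ℕ} (hr : r.Prime)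
    (hm : r ∣ ⁅N, N⁆.relIndex N) :
    (∀ a ∈ Cfsg.relCharDegrees N, ∀ b ∈ Cfsg.relCharDegrees N, Conn N a b) ∨
    ((∀ ν : N →* ℂˣ, ν ^ r = 1 → ν ≠ 1 → stab (G := G) ν ≠ ⊤) ∧
      ∀ a ∈ Cfsg.relCharDegrees N, ∀ b ∈ Cfsg.relCharDegrees N,
        (r ∣ a ↔ r ∣ b) → Conn N a b) := by
  by_cases hinv : ∀ ν : N →* ℂˣ, ν ^ r = 1 → ν ≠ 1 → stab (G := G) ν ≠ ⊤
  · refine Or.inr ⟨hinv, fun a ha b hb hab => ?_⟩
    by_cases h : r ∣ a
    · exact conn_of_dvd ha hb hr h (hab.1 h)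
    · exact conn_of_not_dvd hNG hr hm hinv ha hb h fun h' => h (hab.2 h')
  · push Not at hinv
    obtain ⟨ν, hνr, hν1, hνt⟩ := hinv
    left
    have key : ∀ a ∈ Cfsg.relCharDegrees N, ∃ a', r ∣ a' ∧ Conn N a a' := by
      intro a ha
      by_cases h : r ∣ a
      · exact ⟨a, h, conn_of_dvd ha ha hr h h⟩
      · exact exists_multiple hNG hr hνr hν1 hνt ha h
    intro a ha b hb
    obtain ⟨a', ha', hca⟩ := key a ha
    obtain ⟨b', hb', hcb⟩ := key b hb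
    exact (hca.trans (conn_of_dvd hca.2.1 hcb.2.1 hr ha' hb')).trans hcb.symm

/-- Degrees prime to different primes of the index are joined. -/
theorem conn_cross (hNG : N ≤ commutator G) {r s : ℕ} (hr : r.Prime) (hs : s.Prime) (hrs : r ≠ s)
    (hmr : r ∣ ⁅N, N⁆.relIndex N) (hms : s ∣ ⁅N, N⁆.relIndex N) {a b : ℕ}
    (ha : a ∈ Cfsg.relCharDegrees N) (hb : b ∈ Cfsg.relCharDegrees N) (hsa : ¬ s ∣ a)
    (hrb : ¬ r ∣ b) : Conn N a b := by
  rcases preconn_or_conn hNG hr hmr with h | ⟨hir, -⟩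
  · exact h a ha b hb
  rcases preconn_or_conn hNG hs hms with h | ⟨his, -⟩
  · exact h a ha b hb
  obtain ⟨ν, hνr, hν1, hB⟩ := exists_link hNG hr hmr hir hb hrb
  obtain ⟨μ, hμs, hμ1, hA⟩ := exists_link hNG hs hms his ha hsa
  obtain ⟨hle, hne⟩ := stab_mul_le_left (G := G) hr hs hrs hνr hν1 hμs
  obtain ⟨hle', -⟩ := stab_mul_le_left (G := G) hs hr hrs.symm hμs hμ1 hνr
  rw [show μ * ν = ν * μ from MonoidHom.ext fun n => mul_comm (μ n) (ν n)] at hle'
  obtain ⟨c, hc, hcd⟩ := exists_degree_over (G := G) hne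
  exact (hA c hc ((Subgroup.index_dvd_of_le hle').trans hcd)).trans
    (hB c hc ((Subgroup.index_dvd_of_le hle).trans hcd)).symm

end CfsgLib.DegGraph
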