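import Cfsg.Agent.Lib.DegGraph.RelGraph

/-!
# The disconnected relative common-divisor graph over a solvable subgroup
-/

set_option autoImplicit false
set_option linter.style.haveILetI false
set_option linter.unusedSectionVars false

namespace CfsgLib.DegGraph

open Cfsg CfsgLib

universe u

/-- Restriction to a normal subgroup of index prime to the degree is irreducible. -/
theorem res_irreducible_of_coprime {H : Type u} [Group H] [Fintype H] (M : Subgroup H) [M.Normal]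
    [Fintype M] (χ : IrrCharacter H) (h : Nat.Coprime (charDegree (χ : H → ℂ)) M.index) :
    Cfsg.IsIrrCharacter M (fun x : M => (χ : H → ℂ) x) := by
  obtain ⟨θ, hθ⟩ := exists_constituent_res χ M
  obtain ⟨-, hi⟩ := inertia_index_dvd θ.2 hθ
  have hT : CharTwist.inertia M (θ : M → ℂ) = ⊤ := Subgroup.index_eq_one.1
    (Nat.eq_one_of_dvd_coprimes h hi (Subgroup.index_dvd_of_le
      (CharTwist.le_inertia M (Char.IsIrrCharacter.isClassFunction θ.2))))
  have hinv : ∀ g, CharTwist.conjFun M (θ : M → ℂ) g = (θ : M → ℂ) := fun g =>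
    CharTwist.mem_inertia.1 (hT ▸ Subgroup.mem_top g)
  obtain ⟨b, d, hd, hχ, hb⟩ := CharDeep.Extend.degree_dvd M (θ : M → ℂ) θ.2
    (fun g n => congrFun (hinv g) n) (χ : H → ℂ) χ.2 hθ
  have hχn : charDegree (χ : H → ℂ) = b * d :=
    Nat.cast_injective (R := ℂ) ((CharTools.irr_degree_cast χ).trans hχ)
  have hb1 : b = 1 := Nat.eq_one_of_dvd_coprimes h (hχn ▸ Dvd.intro _ rfl) hb
  obtain ⟨e, -, he⟩ := CharDeep.Cliff.res_eq_smul M χ.2 θ.2 hinv hθ
  have he1 : (e : ℂ) = 1 := by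
    have h1 := congrFun he 1
    simp only [Pi.smul_apply, smul_eq_mul, Subgroup.coe_one] at h1
    rw [hχ, hb1, one_mul, ← hd] at h1
    exact mul_right_cancel₀ (CharTools.irr_apply_one_ne_zero θ) (by rw [one_mul]; exact h1.symm)
  rw [he, he1, one_smul]
  exact θ.2

variable {G : Type u} [Group G] [Fintype G] {N : Subgroup G} [N.Normal] [Fintype N]

/-- A common neighbour of degrees above two linear characters of the same prime order. -/
theorem exists_common_same {r : ℕ} (hr : r.Prime)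
    (hinv : ∀ ν : N →* ℂˣ, ν ^ r = 1 → ν ≠ 1 → stab (G := G) ν ≠ ⊤) {μ μ' : N →* ℂˣ}
    (hμr : μ ^ r = 1) (hμ1 : μ ≠ 1) (hμ'r : μ' ^ r = 1) (hμ'1 : μ' ≠ 1)
    (hμt : ¬ r ∣ (stab (G := G) μ).index) (hμ't : ¬ r ∣ (stab (G := G) μ').index) :
    ¬ Nat.Coprime (stab (G := G) μ).index (stab (G := G) μ').index ∨
      ∃ c ∈ Cfsg.relCharDegrees N, ¬ Nat.Coprime (stab (G := G) μ).index c ∧
        ¬ Nat.Coprime (stab (G := G) μ').index c := by
  by_cases hts : Nat.Coprime (stab (G := G) μ).index (stab (G := G) μ').index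
  swap
  · exact Or.inl hts
  have htc : ¬ Nat.Coprime (stab (G := G) μ).index (stab (G := G) (μ * μ')).index := fun h =>
    hinv μ hμr hμ1 (stab_eq_top_of_coprime hr hμr hts h hμ't)
  have hsc : ¬ Nat.Coprime (stab (G := G) μ').index (stab (G := G) (μ' * μ)).index := fun h =>
    hinv μ' hμ'r hμ'1 (stab_eq_top_of_coprime hr hμ'r hts.symm h hμt)
  rw [show μ' * μ = μ * μ' from MonoidHom.ext fun n => mul_comm (μ' n) (μ n)] at hsc
  have hne : μ * μ' ≠ 1 := fun h => htc (by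
    rw [h, Subgroup.index_eq_one.2 (Subgroup.eq_top_iff' _ |>.2 fun g => mem_stab.2 (cj_hom_one g))]
    exact Nat.coprime_one_right _)
  obtain ⟨c, hc, hcd⟩ := exists_degree_over (G := G) hne
  exact Or.inr ⟨c, hc, fun h => htc (h.coprime_dvd_right hcd),
    fun h => hsc (h.coprime_dvd_right hcd)⟩

/-- A nonprincipal linear character has a power of prime order dividing the index of the derived
subgroup. -/
theorem exists_prime_power_hom (ι : N →* ℂˣ) (hι : ι ≠ 1) :
    ∃ (r : ℕ) (ν : N →* ℂˣ), r.Prime ∧ r ∣ ⁅N, N⁆.relIndex N ∧ ν ^ r = 1 ∧ ν ≠ 1 ∧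
      stab (G := G) ι ≤ stab ν := by
  have hm : ι ^ (⁅N, N⁆.relIndex N) = 1 := by
    refine MonoidHom.ext fun n => ?_
    have hsub : ⁅N, N⁆.subgroupOf N = commutator N := by
      rw [← Subgroup.map_subtype_commutator, Subgroup.subgroupOf,
        Subgroup.comap_map_eq_self_of_injective N.subtype_injective]
    show ι n ^ (⁅N, N⁆.relIndex N) = 1
    rw [← map_pow, Subgroup.relIndex, hsub]
    exact MonoidHom.mem_ker.1
      (Abelianization.commutator_subset_ker ι ((commutator N).pow_index_mem n))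
  obtain ⟨r, hr, hrd⟩ := Nat.exists_prime_and_dvd
    (n := orderOf ι) (fun h => hι (orderOf_eq_one_iff.1 h))
  obtain ⟨c, hc⟩ := hrd
  have hpos : 0 < orderOf ι := by
    refine orderOf_pos_iff.2 (isOfFinOrder_iff_pow_eq_one.2 ⟨Nat.card N, Nat.card_pos, ?_⟩)
    refine MonoidHom.ext fun n => ?_
    show ι n ^ Nat.card N = 1
    rw [← map_pow, pow_card_eq_one', map_one]
  refine ⟨r, ι ^ c, hr, (Dvd.intro _ hc.symm).trans (orderOf_dvd_of_pow_eq_one hm), ?_, ?_,
    stab_le_pow ι c⟩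
  · refine MonoidHom.ext fun n => ?_
    show (ι n ^ c) ^ r = 1
    rw [← pow_mul, mul_comm, ← hc]
    exact DFunLike.congr_fun (pow_orderOf_eq_one ι) n
  · intro h
    have h1 : orderOf ι ∣ c := orderOf_dvd_of_pow_eq_one h
    have hc0 : 0 < c := by
      rcases Nat.eq_zero_or_pos c with h0 | h0
      · rw [h0, mul_zero] at hc; omega
      · exact h0
    have h2 := Nat.le_of_dvd hc0 h1
    rw [hc] at h2
    nlinarith [hr.two_le]

/-- With a disconnected graph, all nonlinear constituents below degrees prime to the index share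
a prime. -/
theorem exists_prime_nonlinear [Group.IsSolvable N] (_hNG : N ≤ commutator G)
    (hpar : ∀ a b, Conn N a b → Nat.Coprime a (⁅N, N⁆.relIndex N) →
      Nat.Coprime b (⁅N, N⁆.relIndex N)) :
    ∃ s : ℕ, s.Prime ∧ ∀ (X : IrrCharacter G) (θ : IrrCharacter N), Over X (θ : N → ℂ) →
      Nat.Coprime (charDegree (X : G → ℂ)) (⁅N, N⁆.relIndex N) →
      charDegree (θ : N → ℂ) ≠ 1 → s ∣ charDegree (θ : N → ℂ) := by
  classical
  by_cases hM : commutator N = ⊥
  · refine ⟨2, Nat.prime_two, fun X θ _ _ hθ => (hθ ?_).elim⟩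
    have hab : ∀ a b : N, a * b = b * a := fun a b => by
      have h : a * b * a⁻¹ * b⁻¹ ∈ commutator N := by
        rw [← commutatorElement_def]
        exact Subgroup.commutator_mem_commutator (Subgroup.mem_top a) (Subgroup.mem_top b)
      rw [hM, Subgroup.mem_bot, mul_inv_eq_one, mul_inv_eq_iff_eq_mul] at h
      exact h
    refine Nat.cast_injective (R := ℂ) ?_
    rw [CharTools.irr_degree_cast, (CharOver.abelian_irr hab θ.2).1, Nat.cast_one]
  let M : Subgroup N := commutator N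
  haveI : Fintype M := Fintype.ofFinite M
  have hMlt : ⁅M, M⁆ < M := by
    refine lt_of_le_of_ne ((Subgroup.commutator_le_self M)) fun h => hM ?_
    · obtain ⟨k, hk⟩ := (inferInstance : Group.IsSolvable N).solvable
      have : ∀ j, M ≤ derivedSeries N j := by
        intro j
        induction j with
        | zero => exact le_top
        | succ j ih => exact h ▸ Subgroup.commutator_mono ih ih
      exact le_bot_iff.1 (hk ▸ this k)
  have hm' : ⁅M, M⁆.relIndex M ≠ 1 := fun h => not_le_of_gt hMlt (Subgroup.relIndex_eq_one.1 h)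
  obtain ⟨s, hs, hsd⟩ := Nat.exists_prime_and_dvd hm'
  refine ⟨s, hs, fun X θ hX hco hθ => ?_⟩
  by_contra hse
  have hMi : M.index = ⁅N, N⁆.relIndex N := by
    rw [Subgroup.relIndex, ← Subgroup.map_subtype_commutator, Subgroup.subgroupOf,
      Subgroup.comap_map_eq_self_of_injective N.subtype_injective]
  have hφ := res_irreducible_of_coprime M θ (hMi ▸
    hco.coprime_dvd_left (degree_dvd_of_constituent N X θ hX))
  set φ : M → ℂ := fun x : M => (θ : N → ℂ) x with hφdef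
  obtain ⟨l, hls, hl1⟩ := exists_linear_orderOf (G := N) (N := M) hs hsd
  have hirr : Cfsg.IsIrrCharacter M (tw l φ) := isIrr_tw l hφ
  obtain ⟨η, hη⟩ := exists_over' (G := N) (N := M) (tw l φ) hirr
  have he : charDegree (tw l φ) = charDegree (θ : N → ℂ) := by simp [tw, φ, charDegree]
  have heη : charDegree (θ : N → ℂ) ∣ charDegree (η : N → ℂ) :=
    he ▸ (inertia_index_dvd hirr hη).1
  have hη1 : (η : N → ℂ) ≠ fun _ => 1 := fun h => hθ (Nat.dvd_one.1 (by
    rw [h, CharTools.charDegree_principal] at heη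
    exact heη))
  obtain ⟨Y, hY⟩ := exists_over' (G := G) (η : N → ℂ) η.2
  have hYR := mem_rel_of_over η.2 hη1 hY
  have hXR := mem_rel_of_over θ.2 (fun h => hθ (by rw [h, CharTools.charDegree_principal])) hX
  have hηY := degree_dvd_of_constituent N Y η hY
  obtain ⟨p, hp, hpd⟩ := Nat.exists_prime_and_dvd hθ
  have hcoY := hpar _ _ (conn_of_dvd hXR hYR hp
    (hpd.trans (degree_dvd_of_constituent N X θ hX)) ((hpd.trans heη).trans hηY)) hco
  have hηM := res_irreducible_of_coprime M η (hMi ▸ hcoY.coprime_dvd_left hηY)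
  have heq : (fun x : M => (η : N → ℂ) x) = tw l φ := Char.eq_of_classInner_ne_zero hηM hirr hη
  apply hl1
  refine MonoidHom.ext fun x => ?_
  have h1 := twist_pow_eq_one (G := N) (N := M) le_rfl (Char.IsIrrCharacter.isCharacter θ.2)
    (Char.IsIrrCharacter.isCharacter η.2) (CharTools.irr_degree_cast θ).symm 1 1 l (fun y => by
      rw [Nat.cast_one, one_mul, one_mul]
      exact (congrFun heq y).symm) x
  rw [mul_one] at h1
  have h2 : l x ^ s = 1 := DFunLike.congr_fun hls x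
  have h3 := pow_gcd_eq_one.2 ⟨h1, h2⟩
  rw [Nat.Coprime.gcd_eq_one (hs.coprime_iff_not_dvd.2 hse).symm, pow_one] at h3
  exact h3

/-- In a disconnected graph degrees prime to the index are adjacent or have a common neighbour. -/
theorem exists_common_neighbour [Group.IsSolvable N] (hNG : N ≤ commutator G)
    (hinv : ∀ r : ℕ, r.Prime → r ∣ ⁅N, N⁆.relIndex N →
      ∀ ν : N →* ℂˣ, ν ^ r = 1 → ν ≠ 1 → stab (G := G) ν ≠ ⊤)
    (hpar : ∀ a b, Conn N a b → Nat.Coprime a (⁅N, N⁆.relIndex N) →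
      Nat.Coprime b (⁅N, N⁆.relIndex N)) {a b : ℕ}
    (ha : a ∈ Cfsg.relCharDegrees N) (hb : b ∈ Cfsg.relCharDegrees N)
    (hca : Nat.Coprime a (⁅N, N⁆.relIndex N)) (hcb : Nat.Coprime b (⁅N, N⁆.relIndex N)) :
    ¬ Nat.Coprime a b ∨ ∃ c ∈ Cfsg.relCharDegrees N, ¬ Nat.Coprime a c ∧ ¬ Nat.Coprime b c := by
  classical
  let Lin : ℕ → Prop := fun d => ∃ (r : ℕ) (ν : N →* ℂˣ), r.Prime ∧ r ∣ ⁅N, N⁆.relIndex N ∧
    ν ^ r = 1 ∧ ν ≠ 1 ∧ (stab (G := G) ν).index ∣ d
  have hfree : ∀ (d : ℕ), Nat.Coprime d (⁅N, N⁆.relIndex N) → ∀ (r : ℕ), r.Prime →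
      r ∣ ⁅N, N⁆.relIndex N → ¬ r ∣ d :=
    fun d hd r hr hrm hrd => hr.not_dvd_one (hd ▸ Nat.dvd_gcd hrd hrm)
  have hstabne : ∀ {T : Subgroup G} {d : ℕ}, T ≠ ⊤ → T.index ∣ d → ∀ {c : ℕ},
      ¬ Nat.Coprime T.index c → ¬ Nat.Coprime d c := by
    intro T d _ hTd c hTc h
    exact hTc (h.coprime_dvd_left hTd)
  have hpair : ∀ {a b r : ℕ} {ν : N →* ℂˣ}, r.Prime → r ∣ ⁅N, N⁆.relIndex N → ν ^ r = 1 →
      ν ≠ 1 → (stab (G := G) ν).index ∣ a →
      a ∈ Cfsg.relCharDegrees N → b ∈ Cfsg.relCharDegrees N →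
      Nat.Coprime a (⁅N, N⁆.relIndex N) → Nat.Coprime b (⁅N, N⁆.relIndex N) →
      (∀ μ : N →* ℂˣ, μ ^ r = 1 → μ ≠ 1 → (stab (G := G) μ).index ∣ b →
        ¬ Nat.Coprime a b ∨
          ∃ c ∈ Cfsg.relCharDegrees N, ¬ Nat.Coprime a c ∧ ¬ Nat.Coprime b c) := by
    intro a b r ν hr hrm hνr hν1 hνa _ _ hca hcb μ hμr hμ1 hμb
    rcases exists_common_same hr (hinv r hr hrm) hνr hν1 hμr hμ1
      (fun h => hfree a hca r hr hrm (h.trans hνa))
      (fun h => hfree b hcb r hr hrm (h.trans hμb)) with h | ⟨c, hc, h1, h2⟩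
    · exact Or.inl fun hab => h ((hab.coprime_dvd_left hνa).coprime_dvd_right hμb)
    · exact Or.inr ⟨c, hc, hstabne (hinv r hr hrm ν hνr hν1) hνa h1,
        hstabne (hinv r hr hrm μ hμr hμ1) hμb h2⟩
  have hlink : ∀ {a b : ℕ}, a ∈ Cfsg.relCharDegrees N → b ∈ Cfsg.relCharDegrees N →
      Nat.Coprime a (⁅N, N⁆.relIndex N) → Nat.Coprime b (⁅N, N⁆.relIndex N) → Lin a →
      ¬ Nat.Coprime a b ∨
        ∃ c ∈ Cfsg.relCharDegrees N, ¬ Nat.Coprime a c ∧ ¬ Nat.Coprime b c := by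
    intro a b ha hb hca hcb hA
    obtain ⟨r, ν, hr, hrm, hνr, hν1, hνa⟩ := hA
    rcases case_split hNG hr hb (hfree b hcb r hr hrm) with
      ⟨μ, hμr, hμ1, -, hμb, -⟩ | ⟨q, ψ, hq, hqb, hψ, h⟩
    · exact hpair hr hrm hνr hν1 hνa ha hb hca hcb μ hμr hμ1 hμb
    · obtain ⟨X, hX⟩ := exists_over' (G := G) (tw ν ψ) (isIrr_tw ν hψ)
      refine Or.inr ⟨_, mem_rel_of_forall_dvd hq (isIrr_tw ν hψ)
        (fun Y hY => (h ν hνr Y hY).1) hX, fun hco => ?_, fun hco => ?_⟩
      · exact hinv r hr hrm ν hνr hν1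
          (Subgroup.index_eq_one.1 (Nat.eq_one_of_dvd_coprimes hco hνa (h ν hνr X hX).2))
      · exact hq.ne_one (Nat.eq_one_of_dvd_coprimes hco hqb (h ν hνr X hX).1)
  by_cases hA : Lin a
  · exact hlink ha hb hca hcb hA
  by_cases hB : Lin b
  · rcases hlink hb ha hcb hca hB with h | ⟨c, hc, h1, h2⟩
    · exact Or.inl fun hh => h hh.symm
    · exact Or.inr ⟨c, hc, h2, h1⟩
  obtain ⟨s, hs, hall⟩ := exists_prime_nonlinear hNG hpar
  have key : ∀ {d : ℕ}, d ∈ Cfsg.relCharDegrees N → Nat.Coprime d (⁅N, N⁆.relIndex N) →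
      ¬ Lin d → s ∣ d := by
    intro d hd hcd hL
    obtain ⟨X, θ, rfl, hX, hθ1⟩ := exists_over_of_mem hd
    by_cases he : charDegree (θ : N → ℂ) = 1
    · obtain ⟨ι, hι⟩ := Char.IsCharacter.exists_linear (Char.IsIrrCharacter.isCharacter θ.2)
        (by rw [← CharTools.irr_degree_cast θ, he, Nat.cast_one])
      have hι1 : ι ≠ 1 := fun h => hθ1 (funext fun n => by rw [hι, h]; rfl)
      obtain ⟨r, ν, hr, hrm, hνr, hν1, hle⟩ := exists_prime_power_hom (G := G) ι hι1
      refine (hL ⟨r, ν, hr, hrm, hνr, hν1, (Subgroup.index_dvd_of_le hle).trans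
        (stab_index_dvd (X := X) ?_)⟩).elim
      rw [show lin ι = (θ : N → ℂ) from funext fun n => (hι n).symm]
      exact hX
    · exact (hall X θ hX hcd he).trans (degree_dvd_of_constituent N X θ hX)
  exact Or.inl fun hh => hs.ne_one
    (Nat.eq_one_of_dvd_coprimes hh (key ha hca hA) (key hb hcb hB))

end CfsgLib.DegGraph
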