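import Cfsg.Agent.Lib.DegGraph.RelDet
import Mathlib.GroupTheory.FiniteAbelian.Duality
import Mathlib.GroupTheory.Abelianization.Finite

/-!
# The common-divisor graph on the degrees over a subgroup of the derived subgroup
-/

set_option autoImplicit false
set_option linter.style.haveILetI false
set_option linter.unusedSectionVars false

namespace CfsgLib.DegGraph

open Cfsg CfsgLib

universe u

variable {G : Type u} [Group G] {N : Subgroup G}

/-- Being joined in the relative common-divisor graph. -/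
def Conn (N : Subgroup G) (a b : ℕ) : Prop :=
  ∃ (ha : a ∈ Cfsg.relCharDegrees N) (hb : b ∈ Cfsg.relCharDegrees N),
    (Cfsg.commonDivisorGraph.induce (Cfsg.relCharDegrees N)).Reachable ⟨a, ha⟩ ⟨b, hb⟩

theorem Conn.symm {a b : ℕ} (h : Conn N a b) : Conn N b a := by
  obtain ⟨ha, hb, hr⟩ := h
  exact ⟨hb, ha, hr.symm⟩

theorem Conn.trans {a b c : ℕ} (h : Conn N a b) (h' : Conn N b c) : Conn N a c := by
  obtain ⟨ha, hb, hr⟩ := h
  obtain ⟨_, hc, hr'⟩ := h'
  exact ⟨ha, hc, hr.trans hr'⟩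

variable [Finite G]

theorem conn_of_dvd {a b p : ℕ} (ha : a ∈ Cfsg.relCharDegrees N) (hb : b ∈ Cfsg.relCharDegrees N)
    (hp : p.Prime) (h1 : p ∣ a) (h2 : p ∣ b) : Conn N a b := by
  refine ⟨ha, hb, ?_⟩
  by_cases hab : a = b
  · subst hab; rfl
  · obtain ⟨χ, -, hχ⟩ := ha
    refine SimpleGraph.Adj.reachable (show Cfsg.commonDivisorGraph.Adj a b from ⟨hab, ?_⟩)
    exact hp.one_lt.trans_le (Nat.le_of_dvd (Nat.gcd_pos_of_pos_left b
      (hχ ▸ CharTools.irr_degree_pos χ)) (Nat.dvd_gcd h1 h2))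

theorem conn_of_index {a b : ℕ} {T : Subgroup G} (ha : a ∈ Cfsg.relCharDegrees N)
    (hb : b ∈ Cfsg.relCharDegrees N) (hT : T ≠ ⊤) (h1 : T.index ∣ a) (h2 : T.index ∣ b) :
    Conn N a b := by
  obtain ⟨p, hp, hpd⟩ := Nat.exists_prime_and_dvd
    (n := T.index) (fun h => hT (Subgroup.index_eq_one.1 h))
  exact conn_of_dvd ha hb hp (hpd.trans h1) (hpd.trans h2)

variable [N.Normal] [Fintype G] [Fintype N]

theorem mem_rel_of_over {X : IrrCharacter G} {ψ : N → ℂ} (hψ : Cfsg.IsIrrCharacter N ψ)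
    (h1 : ψ ≠ fun _ => 1) (h : Over X ψ) :
    charDegree (X : G → ℂ) ∈ Cfsg.relCharDegrees N := by
  refine ⟨X, ?_, rfl⟩
  by_contra hc
  push Not at hc
  apply h
  have hres : (fun n : N => (X : G → ℂ) n) = (X : G → ℂ) 1 • fun _ : N => (1 : ℂ) :=
    funext fun n => by simp [hc n n.2]
  rw [hres, Char.classInner_smul_left,
    Char.classInner_irr_of_ne Char.isIrrCharacter_principal hψ (Ne.symm h1), mul_zero]

theorem exists_over_of_mem {d : ℕ} (hd : d ∈ Cfsg.relCharDegrees N) :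
    ∃ (X : IrrCharacter G) (θ : IrrCharacter N), charDegree (X : G → ℂ) = d ∧
      Over X (θ : N → ℂ) ∧ (θ : N → ℂ) ≠ fun _ => 1 := by
  obtain ⟨X, ⟨x, hx, hne⟩, rfl⟩ := hd
  by_contra hc
  push Not at hc
  apply hne
  have hexp := Char.IsCharacter.eq_sum_classInner
    (Char.IsCharacter.restrict (Char.IsIrrCharacter.isCharacter X.2) N)
  have key : ∀ n : N, (X : G → ℂ) n =
      ∑ φ : IrrCharacter N, Cfsg.classInner (fun m : N => (X : G → ℂ) m) (φ : N → ℂ) := by
    intro n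
    have := congrFun hexp n
    rw [Finset.sum_apply] at this
    refine this.trans (Finset.sum_congr rfl fun φ _ => ?_)
    by_cases h0 : Cfsg.classInner (fun m : N => (X : G → ℂ) m) (φ : N → ℂ) = 0
    · rw [Pi.smul_apply, h0, zero_smul]
    · rw [Pi.smul_apply, hc X φ rfl h0, smul_eq_mul, mul_one]
  exact (key ⟨x, hx⟩).trans (key 1).symm

/-- A linear character as an irreducible function. -/
def lin (ν : N →* ℂˣ) : N → ℂ := fun n => (ν n : ℂ)

theorem isIrr_lin (ν : N →* ℂˣ) : Cfsg.IsIrrCharacter N (lin ν) := Char.isIrrCharacter_linear ν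

theorem lin_ne_one {ν : N →* ℂˣ} (h : ν ≠ 1) : lin ν ≠ fun _ => 1 := fun he =>
  h (MonoidHom.ext fun n => Units.ext (congrFun he n))

theorem stab_index_dvd {X : IrrCharacter G} {ν : N →* ℂˣ} (h : Over X (lin ν)) :
    (stab ν).index ∣ charDegree (X : G → ℂ) :=
  (dvd_mul_left _ _).trans (Blk83.dvd_of_constituent N X ⟨lin ν, isIrr_lin ν⟩ h)

theorem inertia_index_dvd {X : IrrCharacter G} {ψ : N → ℂ} (hψ : Cfsg.IsIrrCharacter N ψ)
    (h : Over X ψ) :
    charDegree ψ ∣ charDegree (X : G → ℂ) ∧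
      (CharTwist.inertia N ψ).index ∣ charDegree (X : G → ℂ) :=
  ⟨(dvd_mul_right _ _).trans (Blk83.dvd_of_constituent N X ⟨ψ, hψ⟩ h),
    (dvd_mul_left _ _).trans (Blk83.dvd_of_constituent N X ⟨ψ, hψ⟩ h)⟩

omit [Fintype G] in
theorem tw_cancel {r : ℕ} (hr : r.Prime) {ψ : N → ℂ} (hψ : Cfsg.IsIrrCharacter N ψ)
    (he : ¬ r ∣ charDegree ψ) {ν μ : N →* ℂˣ} (hν : ν ^ r = 1) (hμ : μ ^ r = 1)
    (h : tw ν ψ = tw μ ψ) : ν = μ := by
  refine MonoidHom.ext fun n => ?_
  have h1 := pow_degree_eq_one (Char.IsIrrCharacter.isCharacter hψ)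
    (CharTools.irr_degree_cast ⟨ψ, hψ⟩).symm (μ⁻¹ * ν) (funext fun m => by
      have hm : (ν m : ℂ) * ψ m = (μ m : ℂ) * ψ m := congrFun h m
      show (((μ⁻¹ * ν) m : ℂˣ) : ℂ) * ψ m = ψ m
      rw [MonoidHom.mul_apply, MonoidHom.inv_apply, Units.val_mul, mul_assoc, hm, ← mul_assoc,
        Units.inv_mul, one_mul])
  have h2 : ((μ n)⁻¹ * ν n) ^ charDegree ψ = 1 := DFunLike.congr_fun h1 n
  have h3 : ((μ n)⁻¹ * ν n) ^ r = 1 := by
    rw [mul_pow, inv_pow, show μ n ^ r = 1 from DFunLike.congr_fun hμ n,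
      show ν n ^ r = 1 from DFunLike.congr_fun hν n, inv_one, one_mul]
  have h4 := pow_gcd_eq_one.2 ⟨h2, h3⟩
  rw [Nat.Coprime.gcd_eq_one (hr.coprime_iff_not_dvd.2 he).symm, pow_one] at h4
  exact (inv_mul_eq_one.1 h4).symm

/-- The two kinds of degrees prime to `r`. -/
theorem case_split (hNG : N ≤ commutator G) {r : ℕ} (hr : r.Prime) {d : ℕ}
    (hd : d ∈ Cfsg.relCharDegrees N) (hrd : ¬ r ∣ d) :
    (∃ μ : N →* ℂˣ, μ ^ r = 1 ∧ μ ≠ 1 ∧ ¬ r ∣ (stab μ).index ∧ (stab μ).index ∣ d ∧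
      stab μ ≠ ⊤) ∨
    ∃ (q : ℕ) (ψ : N → ℂ), q.Prime ∧ q ∣ d ∧ Cfsg.IsIrrCharacter N ψ ∧
      ∀ ν : N →* ℂˣ, ν ^ r = 1 → ∀ X : IrrCharacter G, Over X (tw ν ψ) →
        q ∣ charDegree (X : G → ℂ) ∧ (stab ν).index ∣ charDegree (X : G → ℂ) := by
  classical
  obtain ⟨χ, θ, rfl, hθ, hθ1⟩ := exists_over_of_mem hd
  set e := charDegree (θ : N → ℂ) with he
  obtain ⟨hed, hId⟩ := inertia_index_dvd θ.2 hθ
  set I := CharTwist.inertia N (θ : N → ℂ) with hI
  have hre : ¬ r ∣ e := fun h => hrd (h.trans hed)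
  have hone : ∀ g : G, cj g (1 : N →* ℂˣ) = 1 := cj_hom_one
  -- the stabiliser of the coset
  let J : Subgroup G :=
    { carrier := {g | ∃ l : N →* ℂˣ, l ^ r = 1 ∧ CharTwist.conjFun N (θ : N → ℂ) g = tw l θ}
      one_mem' := ⟨1, MonoidHom.ext fun _ => one_pow r, by rw [CharTwist.conjFun_one, tw_one]⟩
      mul_mem' := by
        rintro a b ⟨l, hl, ha⟩ ⟨l', hl', hb⟩
        refine ⟨cj b l * l', MonoidHom.ext fun n => ?_, ?_⟩
        · show (l (MulAut.conjNormal b n) * l' n) ^ r = 1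
          rw [mul_pow, show l (MulAut.conjNormal b n) ^ r = 1 from DFunLike.congr_fun hl _,
            show l' n ^ r = 1 from DFunLike.congr_fun hl' n, one_mul]
        · rw [CharTwist.conjFun_mul, ha, conjFun_tw, hb, tw_mul]
      inv_mem' := by
        rintro a ⟨l, hl, ha⟩
        refine ⟨(cj a⁻¹ l)⁻¹, MonoidHom.ext fun n => ?_, ?_⟩
        · show ((l (MulAut.conjNormal a⁻¹ n))⁻¹) ^ r = 1
          rw [inv_pow, show l (MulAut.conjNormal a⁻¹ n) ^ r = 1 from DFunLike.congr_fun hl _,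
            inv_one]
        · have h := congrArg (fun f => CharTwist.conjFun N f a⁻¹) ha
          simp only [conjFun_tw, ← CharTwist.conjFun_mul, mul_inv_cancel,
            CharTwist.conjFun_one] at h
          funext n
          have hn : (θ : N → ℂ) n = ((cj a⁻¹ l n : ℂˣ) : ℂ) *
              CharTwist.conjFun N (θ : N → ℂ) a⁻¹ n := congrFun h n
          show _ = ((((cj a⁻¹ l)⁻¹ : N →* ℂˣ) n : ℂˣ) : ℂ) * (θ : N → ℂ) n
          rw [MonoidHom.inv_apply, hn, ← mul_assoc, Units.inv_mul, one_mul] }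
  have hJmem : ∀ g, g ∈ J ↔ ∃ l : N →* ℂˣ, l ^ r = 1 ∧
      CharTwist.conjFun N (θ : N → ℂ) g = tw l θ := fun g => Iff.rfl
  choose lam hlam hlamθ using fun g : J => (hJmem g).1 g.2
  have hIJ : I ≤ J := fun g hg => ⟨1, MonoidHom.ext fun _ => one_pow r, by rw [tw_one]; exact CharTwist.mem_inertia.1 hg⟩
  -- the translations attached to the orbit inside the coset
  let L : Finset (N →* ℂˣ) := Finset.univ.image lam
  have hLcard : L.card ∣ charDegree (χ : G → ℂ) := by
    have h1 : Nat.card (Set.range lam) = (I.subgroupOf J).index := by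
      refine card_range_eq_index lam _ fun a b => ?_
      rw [Subgroup.mem_subgroupOf, Subgroup.coe_mul, Subgroup.coe_inv, hI, CharTwist.mem_inertia,
        CharTwist.conjFun_mul]
      constructor
      · intro h
        rw [hlamθ a, h, ← hlamθ b, ← CharTwist.conjFun_mul, mul_inv_cancel, CharTwist.conjFun_one]
      · intro h
        have h2 := congrArg (fun f => CharTwist.conjFun N f (b : G)) h
        simp only [← CharTwist.conjFun_mul, inv_mul_cancel_right] at h2
        rw [hlamθ a, hlamθ b] at h2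
        exact tw_cancel hr θ.2 hre (hlam a) (hlam b) h2
    have h2 : L.card = (I.subgroupOf J).index := by
      rw [← h1, ← Nat.card_eq_finsetCard]
      exact Nat.card_congr (Equiv.subtypeEquivRight fun x => by simp [L])
    have h3 := Subgroup.relIndex_mul_index hIJ
    rw [h2]
    exact (Dvd.intro _ h3).trans hId
  have hcl : ∀ g : J, L.image (fun x => cj (g : G) x * lam g) = L := by
    intro g
    refine Finset.eq_of_subset_of_card_le ?_ ?_
    · intro z hz
      obtain ⟨x, hx, rfl⟩ := Finset.mem_image.1 hz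
      obtain ⟨h, -, rfl⟩ := Finset.mem_image.1 hx
      refine Finset.mem_image.2 ⟨h * g, Finset.mem_univ _, ?_⟩
      refine tw_cancel hr θ.2 hre (hlam _) (MonoidHom.ext fun n => ?_) ?_
      · show (lam h (MulAut.conjNormal (g : G) n) * lam g n) ^ r = 1
        rw [mul_pow, show lam h (MulAut.conjNormal (g : G) n) ^ r = 1 from
          DFunLike.congr_fun (hlam h) _, show lam g n ^ r = 1 from DFunLike.congr_fun (hlam g) n,
          one_mul]
      · rw [← hlamθ, Subgroup.coe_mul, CharTwist.conjFun_mul, hlamθ h, conjFun_tw, hlamθ g,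
          ← tw_mul]
    · refine (Finset.card_image_of_injective _ fun x y hxy => ?_).ge
      have h1 : cj (g : G) x = cj (g : G) y := MonoidHom.ext fun n =>
        mul_right_cancel (DFunLike.congr_fun hxy n)
      have := congrArg (cj (g : G)⁻¹) h1
      rwa [← cj_mul, ← cj_mul, mul_inv_cancel, cj_one, cj_one] at this
  obtain ⟨k, -, hk⟩ := Nat.exists_mul_mod_eq_one_of_coprime (k := r) (n := L.card)
    ((hr.coprime_iff_not_dvd.2 fun h => hrd (h.trans hLcard)).symm) hr.one_lt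
  let l₀ : N →* ℂˣ := (∏ x ∈ L, x) ^ k
  have hl₀ : l₀ ^ r = 1 := MonoidHom.ext fun n => by
    show ((∏ x ∈ L, x) n ^ k) ^ r = 1
    rw [← pow_mul, mul_comm, pow_mul, MonoidHom.finsetProd_apply, ← Finset.prod_pow,
      Finset.prod_eq_one, one_pow]
    intro x hx
    obtain ⟨g, -, rfl⟩ := Finset.mem_image.1 hx
    exact DFunLike.congr_fun (hlam g) n
  let ψ : N → ℂ := tw l₀ θ
  have hψ : Cfsg.IsIrrCharacter N ψ := isIrr_tw l₀ θ.2
  have hψe : charDegree ψ = e := by simp [ψ, tw, charDegree, he]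
  have hψfix : ∀ g ∈ J, CharTwist.conjFun N ψ g = ψ := by
    intro g hg
    funext n
    have h1 : CharTwist.conjFun N ψ g = tw (cj g l₀ * lam ⟨g, hg⟩) (θ : N → ℂ) := by
      rw [conjFun_tw, hlamθ ⟨g, hg⟩, tw_mul]
    rw [h1]
    have h2 := congrArg (fun s : Finset (N →* ℂˣ) => (∏ x ∈ s, x) n) (hcl ⟨g, hg⟩)
    simp only at h2
    rw [Finset.prod_image (fun x _ y _ hxy => ?_)] at h2
    · simp only [MonoidHom.finsetProd_apply, MonoidHom.mul_apply, Finset.prod_mul_distrib,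
        Finset.prod_const] at h2
      show ((((∏ x ∈ L, x) ^ k) (MulAut.conjNormal g n) * lam ⟨g, hg⟩ n : ℂˣ) : ℂ) *
        (θ : N → ℂ) n = ((((∏ x ∈ L, x) ^ k) n : ℂˣ) : ℂ) * (θ : N → ℂ) n
      congr 2
      have h3 : lam ⟨g, hg⟩ n = (lam ⟨g, hg⟩ n ^ L.card) ^ k := by
        rw [← pow_mul, pow_eq_pow_mod _ (show lam ⟨g, hg⟩ n ^ r = 1 from
          DFunLike.congr_fun (hlam _) n), hk, pow_one]
      rw [MonoidHom.pow_apply, MonoidHom.pow_apply, MonoidHom.finsetProd_apply,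
        MonoidHom.finsetProd_apply, h3, ← mul_pow]
      exact congrArg (· ^ k) h2
    · have h4 : cj g x = cj g y := MonoidHom.ext fun m =>
        mul_right_cancel (DFunLike.congr_fun hxy m)
      have := congrArg (cj g⁻¹) h4
      rwa [← cj_mul, ← cj_mul, mul_inv_cancel, cj_one, cj_one] at this
  have hinertia : ∀ ν : N →* ℂˣ, ν ^ r = 1 →
      CharTwist.inertia N (tw ν ψ) ≤ J ⊓ stab ν := by
    intro ν hν g hg
    have hg' : tw (cj g ν) (CharTwist.conjFun N ψ g) = tw ν ψ := CharTwist.mem_inertia.1 hg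
    have hgJ : g ∈ J := by
      refine ⟨(cj g (ν * l₀))⁻¹ * (ν * l₀), MonoidHom.ext fun n => ?_, funext fun n => ?_⟩
      · show ((ν (MulAut.conjNormal g n) * l₀ (MulAut.conjNormal g n))⁻¹ * (ν n * l₀ n)) ^ r = 1
        simp only [mul_pow, inv_pow, show ∀ m, ν m ^ r = 1 from DFunLike.congr_fun hν,
          show ∀ m, l₀ m ^ r = 1 from DFunLike.congr_fun hl₀, one_mul, inv_one]
      · have h1 : ((cj g (ν * l₀) n : ℂˣ) : ℂ) * CharTwist.conjFun N (θ : N → ℂ) g n =
            (((ν * l₀) n : ℂˣ) : ℂ) * (θ : N → ℂ) n := by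
          have := congrFun hg' n
          simp only [ψ, conjFun_tw, ← tw_mul] at this
          exact this
        show _ = ((((cj g (ν * l₀))⁻¹ * (ν * l₀)) n : ℂˣ) : ℂ) * (θ : N → ℂ) n
        rw [MonoidHom.mul_apply, MonoidHom.inv_apply, Units.val_mul, mul_assoc, ← h1, ← mul_assoc,
          Units.inv_mul, one_mul]
    refine ⟨hgJ, mem_stab.2 (tw_cancel hr hψ (hψe ▸ hre) (MonoidHom.ext fun n => ?_) hν ?_)⟩
    · exact DFunLike.congr_fun hν (MulAut.conjNormal g n)
    · rw [← hg', hψfix g hgJ]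
  have hover : ∀ ν : N →* ℂˣ, ν ^ r = 1 → ∀ X : IrrCharacter G, Over X (tw ν ψ) →
      e ∣ charDegree (X : G → ℂ) ∧ J.index ∣ charDegree (X : G → ℂ) ∧
        (stab ν).index ∣ charDegree (X : G → ℂ) := by
    intro ν hν X hX
    obtain ⟨h1, h2⟩ := inertia_index_dvd (isIrr_tw ν hψ) hX
    have h3 := hinertia ν hν
    refine ⟨?_, (Subgroup.index_dvd_of_le (h3.trans inf_le_left)).trans h2,
      (Subgroup.index_dvd_of_le (h3.trans inf_le_right)).trans h2⟩
    have h4 : charDegree (tw ν ψ) = e := by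
      rw [← hψe]
      simp [tw, charDegree]
    rwa [h4] at h1
  by_cases hq : J.index = 1 ∧ e = 1
  · obtain ⟨hJ, he1⟩ := hq
    obtain ⟨ι, hι⟩ := Char.IsCharacter.exists_linear (Char.IsIrrCharacter.isCharacter hψ)
      (by
        rw [show ψ 1 = ((charDegree ψ : ℕ) : ℂ) from (CharTools.irr_degree_cast ⟨ψ, hψ⟩).symm,
          hψe, he1, Nat.cast_one])
    have hψι : ψ = lin ι := funext hι
    have hinv : ∀ g : G, cj g ι = ι := fun g => MonoidHom.ext fun n => Units.ext (by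
      have := congrFun (hψfix g (by rw [Subgroup.index_eq_one.1 hJ]; trivial)) n
      rw [hψι] at this
      exact this)
    have hθι : (θ : N → ℂ) = fun n => (((l₀⁻¹ * ι) n : ℂˣ) : ℂ) := funext fun n => by
      rw [MonoidHom.mul_apply, Units.val_mul, ← hι n, MonoidHom.inv_apply]
      simp [ψ, tw]
    by_cases hιr : ι ^ r = 1
    · left
      set μ : N →* ℂˣ := l₀⁻¹ * ι with hμ
      have hμr : μ ^ r = 1 := MonoidHom.ext fun n => by
        show ((l₀ n)⁻¹ * ι n) ^ r = 1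
        rw [mul_pow, inv_pow, show l₀ n ^ r = 1 from DFunLike.congr_fun hl₀ n,
          show ι n ^ r = 1 from DFunLike.congr_fun hιr n, inv_one, one_mul]
      have hμ1 : μ ≠ 1 := fun h => hθ1 (by rw [hθι, h]; rfl)
      have hOv : Over χ (lin μ) := by
        rw [show lin μ = (θ : N → ℂ) from hθι.symm]; exact hθ
      have hdv := stab_index_dvd hOv
      refine ⟨μ, hμr, hμ1, fun h => hrd (h.trans hdv), hdv, fun htop => ?_⟩
      have hμinv : ∀ g : G, cj g μ = μ := fun g => mem_stab.1 (htop ▸ Subgroup.mem_top g)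
      have hpr : Over (Char.principalIrr : IrrCharacter G) (lin (1 : N →* ℂˣ)) := by
        show Cfsg.classInner (fun _ : N => (1 : ℂ)) (fun _ : N => (1 : ℂ)) ≠ 0
        rw [Char.classInner_irr_self Char.isIrrCharacter_principal]
        exact one_ne_zero
      rcases dvd_degree_of_invariant hNG hr hμinv hμr hμ1 (isIrr_lin 1) hpr
        (X₁ := χ) (by rw [show tw μ (lin (1 : N →* ℂˣ)) = lin μ from
          funext fun n => by simp [tw, lin]]; exact hOv) with h | h
      · exact hr.not_dvd_one (by simpa [charDegree, Char.principalIrr_apply] using h)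
      · exact hrd h
    · right
      obtain ⟨n₀, hn₀⟩ : ∃ n, ι n ^ r ≠ 1 := by
        by_contra hc
        push Not at hc
        exact hιr (MonoidHom.ext hc)
      obtain ⟨q, hq, hqd⟩ := Nat.exists_prime_and_dvd
        (n := orderOf (ι n₀ ^ r)) (fun h => hn₀ (orderOf_eq_one_iff.1 h))
      have key : ∀ (l : N →* ℂˣ), l ^ r = 1 → ∀ X : IrrCharacter G,
          Over X (fun n => ((l * ι) n : ℂ)) → q ∣ charDegree (X : G → ℂ) := by
        intro l hl X hX
        refine hqd.trans (orderOf_dvd_of_pow_eq_one ?_)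
        rw [← pow_mul]
        exact pow_mul_degree_eq_one hNG hinv hl hX n₀
      refine ⟨q, ψ, hq, ?_, hψ, fun ν hν X hX => ⟨key ν hν X ?_, (hover ν hν X hX).2.2⟩⟩
      · refine key l₀⁻¹ (MonoidHom.ext fun n => ?_) χ (by rw [← hθι]; exact hθ)
        show (l₀ n)⁻¹ ^ r = 1
        rw [inv_pow, show l₀ n ^ r = 1 from DFunLike.congr_fun hl₀ n, inv_one]
      · rw [hψι] at hX
        exact hX
  · right
    obtain ⟨q, hq', hqd⟩ := Nat.exists_prime_and_dvd (n := J.index * e) (fun h =>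
      hq ⟨Nat.eq_one_of_mul_eq_one_right h, Nat.eq_one_of_mul_eq_one_left h⟩)
    refine ⟨q, ψ, hq', ?_, hψ, fun ν hν X hX => ?_⟩
    · rcases (Nat.Prime.dvd_mul hq').1 hqd with h | h
      · exact h.trans ((Subgroup.index_dvd_of_le hIJ).trans hId)
      · exact h.trans hed
    · obtain ⟨h1, h2, h3⟩ := hover ν hν X hX
      rcases (Nat.Prime.dvd_mul hq').1 hqd with h | h
      · exact ⟨h.trans h2, h3⟩
      · exact ⟨h.trans h1, h3⟩

end CfsgLib.DegGraph
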