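import Cfsg.Agent.Lib.DegGraph.Cyclic
import Cfsg.Agent.Lib.DegGraph.Det
import Cfsg.Agent.Lib.DegGraph.MinimalQuotient
import Cfsg.Agent.Lib.Char.FrobeniusInd
import Cfsg.Prelude.Def_DegreeGraph

/-!
# Degrees produced by a minimal nonabelian quotient
-/

set_option autoImplicit false
set_option linter.style.haveILetI false

open scoped commutatorElement

namespace CfsgLib.DegGraph

open Cfsg CfsgLib

universe u

/-- Two subgroups of the same prime order of a cyclic group are equal. -/
theorem eq_of_card_eq_prime_of_isCyclic {C : Type*} [Group C] [Finite C] [IsCyclic C] {p : ℕ}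
    (hp : p.Prime) {X Y : Subgroup C} (hX : Nat.card X = p) (hY : Nat.card Y = p) : X = Y := by
  classical
  haveI : Fintype C := Fintype.ofFinite C
  have hle := IsCyclic.card_pow_eq_one_le (α := C) (n := p) hp.pos
  have hsub : ∀ Z : Subgroup C, Nat.card Z = p →
      Finset.univ.filter (fun a => a ∈ Z) = Finset.univ.filter (fun a : C => a ^ p = 1) := by
    intro Z hZ
    refine Finset.eq_of_subset_of_card_le (fun a ha => ?_) ?_
    · simp only [Finset.mem_filter, Finset.mem_univ, true_and] at ha ⊢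
      exact orderOf_dvd_iff_pow_eq_one.1 (hZ ▸ Z.orderOf_dvd_natCard ha)
    · refine hle.trans (le_of_eq (hZ.symm.trans ?_))
      rw [Nat.card_eq_fintype_card, Fintype.card_subtype]
  ext a
  simpa using Finset.ext_iff.1 ((hsub X hX).trans (hsub Y hY).symm) a

variable {G : Type u} [Group G] [Finite G]

/-- Over a quotient of prime-power order, degrees prime to `p` can be multiplied by a quotient
degree. -/
theorem pgroup_step (K : Subgroup G) [K.Normal] {p : ℕ} (hp : p.Prime)
    (hK : IsPGroup p (G ⧸ K)) (β : IrrCharacter (G ⧸ K)) (χ : IrrCharacter G)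
    (hχ : ¬ p ∣ charDegree (χ : G → ℂ)) :
    charDegree (χ : G → ℂ) * charDegree (β : G ⧸ K → ℂ) ∈ charDegrees G := by
  classical
  haveI := Fintype.ofFinite G
  haveI := Fintype.ofFinite K
  haveI : Fact p.Prime := ⟨hp⟩
  obtain ⟨a, ha⟩ := IsPGroup.iff_card.1 hK
  have hres := res_irreducible_of_pgroup hp a G K ha χ hχ
  obtain ⟨h1, -, -⟩ := CharDeep.Gal.quotient_bijection K χ.2 hres
  refine ⟨⟨_, (h1 _ β.2).1⟩, ?_⟩
  refine Nat.cast_injective (R := ℂ) ?_
  rw [CharTools.irr_degree_cast, Nat.cast_mul, CharTools.irr_degree_cast,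
    CharTools.irr_degree_cast]
  simp [mul_comm]

/-- Over a Frobenius quotient with elementary kernel, degrees prime to `q` divide a degree which is
a multiple of the complement order. -/
theorem frobenius_step (K N : Subgroup G) [K.Normal] [N.Normal] {q : ℕ} (hq : q.Prime)
    (_hKN : K ≤ N) (hab : ∀ x ∈ N, ∀ y ∈ N, ⁅x, y⁆ ∈ K) (hexp : ∀ x ∈ N, x ^ q ∈ K)
    (hcyc : IsCyclic (G ⧸ N)) (hdvd : N.index ∣ K.relIndex N - 1) (h2 : 1 < K.relIndex N)
    (hfpf : ∀ y ∉ N, ∀ x ∈ N, ⁅x, y⁆ ∈ K → x ∈ K)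
    (χ : IrrCharacter G) (hχ : ¬ q ∣ charDegree (χ : G → ℂ)) :
    ∃ D ∈ charDegrees G, N.index ∣ D ∧ charDegree (χ : G → ℂ) ∣ D := by
  classical
  haveI := Fintype.ofFinite G
  haveI := Fintype.ofFinite N
  obtain ⟨ψ, hψ⟩ := exists_constituent_res χ N
  set e := charDegree (ψ : N → ℂ) with he
  have hdeg := degree_eq_of_cyclic N hcyc χ ψ hψ
  have hqe : ¬ q ∣ e := fun h => hχ (h.trans (degree_dvd_of_constituent N χ ψ hψ))
  let K' : Subgroup N := K.subgroupOf N
  haveI : K'.Normal := Subgroup.normal_subgroupOf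
  let M := N ⧸ K'
  letI : CommGroup M := { (inferInstance : Group M) with
    mul_comm := by
      intro a b
      obtain ⟨x, rfl⟩ := QuotientGroup.mk_surjective a
      obtain ⟨y, rfl⟩ := QuotientGroup.mk_surjective b
      have : ⁅(x : N), y⁆ ∈ K' := hab x x.2 y y.2
      have h1 := (QuotientGroup.eq_one_iff (N := K') _).2 this
      rw [commutatorElement_def, QuotientGroup.mk_mul, QuotientGroup.mk_mul, QuotientGroup.mk_mul,
        QuotientGroup.mk_inv, QuotientGroup.mk_inv, mul_inv_eq_one, mul_inv_eq_iff_eq_mul] at h1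
      exact h1 }
  haveI := Fintype.ofFinite M
  have hMexp : ∀ m : M, m ^ q = 1 := by
    intro m
    obtain ⟨x, rfl⟩ := QuotientGroup.mk_surjective m
    rw [← QuotientGroup.mk_pow, QuotientGroup.eq_one_iff]
    exact hexp x x.2
  have hMcard : Nat.card M = K.relIndex N := rfl
  have hdual : Nat.card (M →* ℂˣ) = K.relIndex N := by
    rw [CommGroup.card_monoidHom_of_hasEnoughRootsOfUnity, hMcard]
  haveI : Finite (M →* ℂˣ) := Nat.finite_of_card_ne_zero (by rw [hdual]; omega)
  -- the twists of `ψ`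
  let lift : (M →* ℂˣ) → (N →* ℂˣ) := fun l => l.comp (QuotientGroup.mk' K')
  let tw : (M →* ℂˣ) → N → ℂ := fun l n => (lift l n : ℂ) * (ψ : N → ℂ) n
  have hker : ∀ d : M →* ℂˣ, (fun n => (lift d n : ℂ) * (ψ : N → ℂ) n) = (ψ : N → ℂ) →
      d = 1 := by
    intro d hd
    have h1 := pow_degree_eq_one (Char.IsIrrCharacter.isCharacter ψ.2)
      (CharTools.irr_degree_cast ψ).symm (lift d) hd
    refine MonoidHom.ext fun m => ?_
    obtain ⟨x, rfl⟩ := QuotientGroup.mk_surjective m
    have h3 : d (x : M) ^ e = 1 := DFunLike.congr_fun h1 x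
    have h4 : d (x : M) ^ q = 1 := by rw [← map_pow, hMexp, map_one]
    have := pow_gcd_eq_one.2 ⟨h3, h4⟩
    rw [Nat.Coprime.gcd_eq_one ((hq.coprime_iff_not_dvd.2 hqe).symm), pow_one] at this
    exact this
  have hconj : ∀ (y : G) (l : M →* ℂˣ) (n : N), CharTwist.conjFun N (tw l) y n =
      (lift l (MulAut.conjNormal y n) : ℂ) * CharTwist.conjFun N (ψ : N → ℂ) y n :=
    fun y l n => rfl
  have huniq : ∀ y ∉ N, ∀ l l' : M →* ℂˣ, CharTwist.conjFun N (tw l) y = tw l →
      CharTwist.conjFun N (tw l') y = tw l' → l = l' := by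
    intro y hy l l' hl hl'
    -- `δ = l' / l`
    set d := l' / l with hd
    let c : M →* M := QuotientGroup.map K' K' (MulAut.conjNormal y : MulAut N).toMonoidHom
      (fun x hx => (inferInstance : K.Normal).conj_mem x hx y)
    have hl'eq : l' = d * l := MonoidHom.ext fun m => by
      rw [hd, MonoidHom.mul_apply, MonoidHom.div_apply, div_mul_cancel]
    have h1 : (fun n => (lift (d.comp c / d) n : ℂ) * (ψ : N → ℂ) n) = (ψ : N → ℂ) := by
      funext n
      have e1 := congrFun hl n
      have e2 := congrFun hl' n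
      rw [hconj] at e1 e2
      simp only [tw, lift, hl'eq, MonoidHom.comp_apply, MonoidHom.mul_apply, Units.val_mul,
        MonoidHom.div_apply, Units.val_div_eq_div_val] at e1 e2 ⊢
      rw [mul_assoc, e1, show ((d (QuotientGroup.mk' K' n) : ℂ) *
        (l (QuotientGroup.mk' K' n) : ℂ) * (ψ : N → ℂ) n) = (d (QuotientGroup.mk' K' n) : ℂ) *
        ((l (QuotientGroup.mk' K' n) : ℂ) * (ψ : N → ℂ) n) from mul_assoc _ _ _] at e2
      have hcn : c (QuotientGroup.mk' K' n) = QuotientGroup.mk' K' (MulAut.conjNormal y n) := rfl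
      rw [hcn]
      have hl0 : (l (QuotientGroup.mk' K' n) : ℂ) ≠ 0 := Units.ne_zero _
      have hd0 : (d (QuotientGroup.mk' K' n) : ℂ) ≠ 0 := Units.ne_zero _
      field_simp
      refine mul_left_cancel₀ hl0 ?_
      linear_combination e2
    have hfix : ∀ m, d (c m) = d m := fun m => div_eq_one.1 (DFunLike.congr_fun (hker _ h1) m)
    -- the difference `δ` kills all commutators with `y`
    let φ : M →* M := MonoidHom.id M / c
    have hφ : Function.Injective φ := by
      rw [injective_iff_map_eq_one]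
      intro m hm
      obtain ⟨x, rfl⟩ := QuotientGroup.mk_surjective m
      rw [QuotientGroup.eq_one_iff]
      have h4 : (QuotientGroup.mk' K' x) = QuotientGroup.mk' K' (MulAut.conjNormal y x) :=
        div_eq_one.1 hm
      have h5 : x⁻¹ * MulAut.conjNormal y x ∈ K' := by
        rw [← QuotientGroup.eq]
        exact h4
      refine hfpf y hy x x.2 ?_
      have h6 : ((x⁻¹ * MulAut.conjNormal y x : N) : G) ∈ K := h5
      rw [Subgroup.coe_mul, Subgroup.coe_inv, MulAut.conjNormal_apply] at h6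
      have h7 := K.inv_mem ((inferInstance : K.Normal).conj_mem _ h6 x)
      have h8 : ((x : G) * ((x : G)⁻¹ * (y * x * y⁻¹)) * (x : G)⁻¹)⁻¹ = ⁅(x : G), y⁆ := by
        rw [commutatorElement_def]; group
      rwa [h8] at h7
    have hd1 : d = 1 := by
      refine MonoidHom.ext fun m => ?_
      obtain ⟨m', rfl⟩ := (Finite.injective_iff_surjective.1 hφ) m
      show d (m' / c m') = 1
      rw [map_div, div_eq_one]
      exact (hfix m').symm
    refine MonoidHom.ext fun m => ?_
    rw [hl'eq, hd1, MonoidHom.mul_apply, MonoidHom.one_apply, one_mul]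
  -- some twist has inertia group `N`
  obtain ⟨z, hz⟩ := hcyc.exists_generator
  obtain ⟨y, rfl⟩ := QuotientGroup.mk_surjective z
  set f := N.index with hf
  have hf0 : 0 < f := Nat.pos_of_ne_zero Subgroup.index_ne_zero_of_finite
  have hord : orderOf (y : G ⧸ N) = f := orderOf_eq_card_of_forall_mem_zpowers hz
  obtain ⟨l, hl⟩ : ∃ l : M →* ℂˣ, ∀ g : G, CharTwist.conjFun N (tw l) g = tw l → g ∈ N := by
    by_contra hc
    push Not at hc
    have hbad : ∀ l : M →* ℂˣ, ∃ r ∈ f.primeFactors,
        CharTwist.conjFun N (tw l) (y ^ (f / r)) = tw l := by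
      intro l
      obtain ⟨g, hg, hgN⟩ := hc l
      let T := CharTwist.inertia N (tw l)
      have hNT : N ≤ T := CharTwist.le_inertia N (Char.IsIrrCharacter.isClassFunction
        (Char.IsIrrCharacter.linear_mul ψ.2 (lift l)))
      let Tb := T.map (QuotientGroup.mk' N)
      have hTb : Tb ≠ ⊥ := by
        intro h
        have : (g : G ⧸ N) ∈ Tb := ⟨g, hg, rfl⟩
        rw [h, Subgroup.mem_bot, QuotientGroup.eq_one_iff] at this
        exact hgN this
      obtain ⟨r, hr, hrd⟩ := Nat.exists_prime_and_dvd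
        (n := Nat.card Tb) (fun h => hTb (Subgroup.eq_bot_of_card_eq _ h))
      haveI : Fact r.Prime := ⟨hr⟩
      obtain ⟨w, hw⟩ := exists_prime_orderOf_dvd_card' r hrd
      have hrf : r ∣ f := hrd.trans (Subgroup.card_subgroup_dvd_card Tb)
      refine ⟨r, Nat.mem_primeFactors.2 ⟨hr, hrf, hf0.ne'⟩, ?_⟩
      have hmem : ((y ^ (f / r) : G) : G ⧸ N) ∈ Tb := by
        have hyo : orderOf ((y : G ⧸ N) ^ (f / r)) = r := by
          rw [orderOf_pow_of_dvd (Nat.div_pos (Nat.le_of_dvd hf0 hrf) hr.pos).ne'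
            (by rw [hord]; exact Nat.div_dvd_of_dvd hrf), hord, Nat.div_div_self hrf hf0.ne']
        have heq : Subgroup.zpowers (w : G ⧸ N) = Subgroup.zpowers ((y : G ⧸ N) ^ (f / r)) := by
          haveI := (isCyclic_iff_exists_zpowers_eq_top (α := G ⧸ N)).2 ⟨_, Subgroup.eq_top_iff' _ |>.2 hz⟩
          refine eq_of_card_eq_prime_of_isCyclic hr ?_ ?_
          · rw [Nat.card_zpowers, Subgroup.orderOf_coe, hw]
          · rw [Nat.card_zpowers, hyo]
        rw [QuotientGroup.mk_pow]
        have : (y : G ⧸ N) ^ (f / r) ∈ Subgroup.zpowers (w : G ⧸ N) :=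
          heq ▸ Subgroup.mem_zpowers _
        exact Subgroup.zpowers_le.2 w.2 this
      obtain ⟨t, ht, hte⟩ := hmem
      have hin : y ^ (f / r) ∈ T := by
        have : t⁻¹ * y ^ (f / r) ∈ N := QuotientGroup.eq.1 hte
        have h9 := T.mul_mem ht (hNT this)
        rwa [mul_inv_cancel_left] at h9
      exact CharTwist.mem_inertia.1 hin
    choose r hr hrl using hbad
    have hinj : Function.Injective fun l => (⟨r l, hr l⟩ : f.primeFactors) := by
      intro l l' hll
      have hrr : r l = r l' := congrArg Subtype.val hll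
      refine huniq _ ?_ l l' (hrl l) (hrr ▸ hrl l')
      obtain ⟨hp, hpd, -⟩ := Nat.mem_primeFactors.1 (hr l)
      intro hmem
      have := (QuotientGroup.eq_one_iff (N := N) _).2 hmem
      rw [QuotientGroup.mk_pow, ← orderOf_dvd_iff_pow_eq_one, hord] at this
      have h10 := Nat.le_of_dvd (Nat.div_pos (Nat.le_of_dvd hf0 hpd) hp.pos) this
      exact absurd h10 (not_le.2 (Nat.div_lt_self hf0 hp.one_lt))
    have hcard := Nat.card_le_card_of_injective _ hinj
    rw [hdual, Nat.card_eq_finsetCard] at hcard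
    have h11 : f.primeFactors.card ≤ f := by
      calc f.primeFactors.card ≤ (Finset.Icc 1 f).card := Finset.card_le_card fun x hx => by
            obtain ⟨hxp, hxd, -⟩ := Nat.mem_primeFactors.1 hx
            exact Finset.mem_Icc.2 ⟨hxp.pos, Nat.le_of_dvd hf0 hxd⟩
        _ = f := by simp
    have h12 : f ≤ K.relIndex N - 1 := Nat.le_of_dvd (by omega) hdvd
    omega
  have hirr : Cfsg.IsIrrCharacter N (tw l) := Char.IsIrrCharacter.linear_mul ψ.2 (lift l)
  refine ⟨f * e, ⟨⟨_, Char.isIrrCharacter_indFun_of_inertia N (tw l) hirr hl⟩, ?_⟩,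
    Dvd.intro _ rfl, ?_⟩
  · refine Nat.cast_injective (R := ℂ) ?_
    rw [CharTools.irr_degree_cast, Nat.cast_mul, he, CharTools.irr_degree_cast]
    show Cfsg.indFun N (tw l) 1 = _
    rw [Char.indFun_apply_one]
    simp [tw, hf]
  · rw [hdeg]
    exact Nat.mul_dvd_mul_right (Subgroup.index_dvd_of_le
      (CharTwist.le_inertia N (Char.IsIrrCharacter.isClassFunction ψ.2))) _

/-- Every solvable nonabelian group has two primes absorbing all degrees. -/
theorem degree_dichotomy [Group.IsSolvable G] (hna : commutator G ≠ ⊥) :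
    ∃ q s : ℕ, q.Prime ∧ s.Prime ∧ ∀ χ : IrrCharacter G, q ∣ charDegree (χ : G → ℂ) ∨
      ∃ D ∈ charDegrees G, s ∣ D ∧ charDegree (χ : G → ℂ) ∣ D := by
  classical
  obtain ⟨K, ⟨hKn, hK⟩, hKmax⟩ := Finite.exists_le_maximal
    (p := fun K : Subgroup G => K.Normal ∧ ¬ commutator G ≤ K) (a := ⊥)
    ⟨inferInstance, fun h => hna (le_bot_iff.1 h)⟩ |>.imp fun K h => h.2
  haveI := hKn
  haveI : Group.IsSolvable (G ⧸ K) :=
    Group.isSolvable_of_surjective (QuotientGroup.mk'_surjective K)
  have hmap : (commutator G).map (QuotientGroup.mk' K) = commutator (G ⧸ K) := by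
    rw [commutator_def, commutator_def, Subgroup.map_commutator,
      Subgroup.map_top_of_surjective _ (QuotientGroup.mk'_surjective K)]
  have hQna : commutator (G ⧸ K) ≠ ⊥ := by
    rw [← hmap, Ne, Subgroup.map_eq_bot_iff, QuotientGroup.ker_mk']
    exact hK
  have hmin : ∀ L : Subgroup (G ⧸ K), L.Normal → L ≠ ⊥ → commutator (G ⧸ K) ≤ L := by
    intro L hL hLb
    haveI := hL
    rw [← hmap, Subgroup.map_le_iff_le_comap]
    by_contra hc
    have hle : K ≤ L.comap (QuotientGroup.mk' K) := by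
      intro x hx
      show QuotientGroup.mk' K x ∈ L
      rw [QuotientGroup.mk'_apply, (QuotientGroup.eq_one_iff x).2 hx]
      exact L.one_mem
    have := hKmax ⟨inferInstance, hc⟩ hle
    apply hLb
    rw [eq_bot_iff]
    intro z hz
    obtain ⟨x, rfl⟩ := QuotientGroup.mk_surjective z
    exact Subgroup.mem_bot.2 ((QuotientGroup.eq_one_iff x).2 (this hz))
  obtain ⟨q, hq, hcase⟩ := structure_of_minimal hQna hmin
  rcases hcase with hp | ⟨habQ, hexQ, hcycQ, hfQ, hdvdQ, hfpfQ⟩
  · haveI : Fact q.Prime := ⟨hq⟩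
    obtain ⟨β, hβ⟩ : ∃ β : IrrCharacter (G ⧸ K), charDegree (β : G ⧸ K → ℂ) ≠ 1 := by
      by_contra hc
      push Not at hc
      apply hQna
      rw [commutator_def, eq_bot_iff, Subgroup.commutator_le]
      exact fun a _ b _ => Subgroup.mem_bot.2
        (commutatorElement_eq_one_iff_mul_comm.2 (Blk83.commute_of_forall_linear hc a b))
    have hqβ : q ∣ charDegree (β : G ⧸ K → ℂ) := by
      obtain ⟨a, ha⟩ := IsPGroup.iff_card.1 hp
      obtain ⟨b, -, hb⟩ := (Nat.dvd_prime_pow hq).1 (ha ▸ CharTools.degree_dvd_card β)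
      rw [hb]
      exact dvd_pow_self q fun h0 => hβ (by rw [hb, h0, pow_zero])
    refine ⟨q, q, hq, hq, fun χ => ?_⟩
    by_cases hd : q ∣ charDegree (χ : G → ℂ)
    · exact Or.inl hd
    · exact Or.inr ⟨_, pgroup_step K hq hp β χ hd, dvd_mul_of_dvd_right hqβ _, Dvd.intro _ rfl⟩
  · let N : Subgroup G := (commutator (G ⧸ K)).comap (QuotientGroup.mk' K)
    have hmemN : ∀ x : G, x ∈ N ↔ (x : G ⧸ K) ∈ commutator (G ⧸ K) := fun x => Iff.rfl
    have hmk : ∀ x : G, x ∈ K ↔ (x : G ⧸ K) = 1 := fun x => (QuotientGroup.eq_one_iff x).symm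
    have hKN : K ≤ N := fun x hx => by
      rw [hmemN, (hmk x).1 hx]
      exact Subgroup.one_mem _
    have hidx : N.index = (commutator (G ⧸ K)).index :=
      Subgroup.index_comap_of_surjective _ (QuotientGroup.mk'_surjective K)
    have hrel : K.relIndex N = Nat.card (commutator (G ⧸ K)) := by
      have h1 := Subgroup.relIndex_mul_index hKN
      have h2 := Subgroup.card_mul_index (commutator (G ⧸ K))
      rw [hidx, show K.index = Nat.card (G ⧸ K) from rfl, ← h2] at h1
      exact Nat.eq_of_mul_eq_mul_right (Nat.pos_of_ne_zero Subgroup.index_ne_zero_of_finite) h1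
    have hcyc : IsCyclic (G ⧸ N) := by
      haveI := hcycQ
      refine isCyclic_of_injective (QuotientGroup.map N (commutator (G ⧸ K)) (QuotientGroup.mk' K)
        le_rfl) ?_
      rw [injective_iff_map_eq_one]
      intro z hz
      obtain ⟨x, rfl⟩ := QuotientGroup.mk_surjective z
      exact (QuotientGroup.eq_one_iff x).2 ((QuotientGroup.eq_one_iff (N := commutator (G ⧸ K)) (x : G ⧸ K)).1 hz)
    have h2 : 1 < K.relIndex N := by
      rw [hrel]
      have := Nat.card_pos (α := commutator (G ⧸ K))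
      have : Nat.card (commutator (G ⧸ K)) ≠ 1 := fun h => hQna (Subgroup.eq_bot_of_card_eq _ h)
      omega
    refine ⟨q, N.index.minFac, hq, Nat.minFac_prime (by omega), fun χ => ?_⟩
    by_cases hd : q ∣ charDegree (χ : G → ℂ)
    · exact Or.inl hd
    refine Or.inr ?_
    obtain ⟨D, hD, hND, hχD⟩ := frobenius_step K N hq hKN
      (fun x hx y hy => (hmk _).2 (by
        rw [← QuotientGroup.mk'_apply, map_commutatorElement]
        exact commutatorElement_eq_one_iff_mul_comm.2 (habQ _ hx _ hy)))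
      (fun x hx => (hmk _).2 (by rw [QuotientGroup.mk_pow]; exact hexQ _ hx))
      hcyc (hidx ▸ hrel ▸ hdvdQ) h2
      (fun y hy x hx hxy => (hmk _).2 (hfpfQ _ hy _ hx (by
        have h1 := (hmk _).1 hxy
        rw [← QuotientGroup.mk'_apply, map_commutatorElement,
          commutatorElement_eq_one_iff_mul_comm] at h1
        exact h1))) χ hd
    exact ⟨D, hD, (Nat.minFac_dvd _).trans hND, hχD⟩

end CfsgLib.DegGraph
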